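import Cfsg.Agent.KSG55.SUStep.Geom

/-!
A group mapping onto `SU_n`, `n ≥ 5`, that is injective on the preimage of a line stabiliser and satisfies the
relations of the orthogonality graph on points of norm one is isomorphic to `SU_n`.
-/

set_option autoImplicit false
set_option linter.unusedSectionVars false

namespace Cfsg.Agent.KSG55.SUStep

open Cfsg.Agent.Unitary Matrix

variable {F : Type*} [Field F] [Fintype F] {k q : ℕ} {H : Type*} [Group H]

/-- Two vectors span the same line. -/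
def Par (x y : Fin (k + 5) → F) : Prop := ∃ c : F, x = c • y

theorem smul_scalar {n : ℕ} (g : SU n F q) (c : F) (v : Fin n → F) : g • (c • v) = c • (g • v) :=
  Matrix.mulVec_smul _ c v

/-- The vector `p₀ + p₁ + γ p₂`. -/
def v0 (γ : F) : Fin (k + 5) → F := eI 0 + (eI 1 + γ • eI 2)

/-- The hypotheses of the covering argument. -/
structure Cov (φ : H →* SU (k + 5) F q) (K : Subgroup H) (s : H) (γ : F) : Prop where
  inj : ∀ x ∈ K, φ x = 1 → x = 1
  mem : ∀ x ∈ K, Par (φ x • (eI 0 : Fin (k + 5) → F)) (eI 0)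
  lift : ∀ g : SU (k + 5) F q, Par (g • (eI 0 : Fin (k + 5) → F)) (eI 0) → ∃ x ∈ K, φ x = g
  s0 : φ s • (eI 0 : Fin (k + 5) → F) = eI 1
  ss : s * s ∈ K
  stab : ∀ x ∈ K, Par (φ x • (eI 1 : Fin (k + 5) → F)) (eI 1) → s⁻¹ * x * s ∈ K
  tri : ∃ k1 ∈ K, φ k1 • (eI 1 : Fin (k + 5) → F) = eI 2 ∧ ∃ x ∈ K, ∃ y ∈ K, s⁻¹ * k1 * s = x * s * y
  norm : γ ^ (q + 1) = -1
  base : ∃ a ∈ K, ∃ b ∈ K, φ (a * s) • (eI 0 : Fin (k + 5) → F) = eI 3 ∧
    φ (a * s * (b * s)) • (eI 0 : Fin (k + 5) → F) = v0 γ ∧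
    ∀ g ∈ (fixS {0, 1, 2} : Subgroup (SU (k + 5) F q)), ∀ x ∈ K, φ x = g →
      (a * s * (b * s))⁻¹ * x * (a * s * (b * s)) ∈ K
  gen : Subgroup.closure ((K : Set H) ∪ {s}) = ⊤

variable {φ : H →* SU (k + 5) F q} {K : Subgroup H} {s : H} {γ : F}

variable (φ) in
/-- The point of a group element. -/
def vec (h : H) : Fin (k + 5) → F := φ h • eI 0

variable (K s) in
/-- Adjacency of cosets. -/
def Adj (a b : H) : Prop := ∃ x ∈ K, ∃ y ∈ K, a⁻¹ * b = x * s * y

theorem vec_mul (a b : H) : vec φ (a * b) = φ a • vec φ b := by rw [vec, map_mul, mul_smul]; rfl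

theorem adj_mul_left {g a b : H} : Adj K s (g * a) (g * b) ↔ Adj K s a b := by
  rw [Adj, Adj, _root_.mul_inv_rev, mul_assoc, inv_mul_cancel_left]

theorem adj_congr_left {a a' b : H} (h : a⁻¹ * a' ∈ K) (hb : Adj K s a b) : Adj K s a' b := by
  obtain ⟨x, hx, y, hy, e⟩ := hb
  exact ⟨(a⁻¹ * a')⁻¹ * x, mul_mem (inv_mem h) hx, y, hy, by rw [mul_assoc _ x s, mul_assoc _ (x * s) y, ← e]; group⟩

theorem adj_congr_right {a b b' : H} (h : b⁻¹ * b' ∈ K) (hb : Adj K s a b) : Adj K s a b' := by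
  obtain ⟨x, hx, y, hy, e⟩ := hb
  exact ⟨x, hx, y * (b⁻¹ * b'), mul_mem hy h, by rw [← mul_assoc _ y, ← e]; group⟩

variable (hc : Cov φ K s γ)

include hc

theorem adj_symm {a b : H} (h : Adj K s a b) : Adj K s b a := by
  obtain ⟨x, hx, y, hy, e⟩ := h
  refine ⟨y⁻¹ * (s * s)⁻¹, mul_mem (inv_mem hy) (inv_mem hc.ss), x⁻¹, inv_mem hx, ?_⟩
  calc b⁻¹ * a = (a⁻¹ * b)⁻¹ := by group
    _ = _ := by rw [e]; group

variable (hF : Fintype.card F = q ^ 2)

include hF

theorem vec_norm (h : H) : herm q (vec φ h) (vec φ h) = 1 := by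
  rw [vec, herm_smul_SU, herm_eI_eI hF, if_pos rfl]

theorem par_symm {x y : Fin (k + 5) → F} (hx : herm q x x = 1) (h : Par x y) : Par y x := by
  obtain ⟨c, rfl⟩ := h
  have : c ≠ 0 := fun e => by simp [e] at hx
  exact ⟨c⁻¹, by rw [smul_smul, inv_mul_cancel₀ this, one_smul]⟩

theorem par_trans {x y z : Fin (k + 5) → F} (h : Par x y) (h' : Par y z) : Par x z := by
  obtain ⟨c, rfl⟩ := h; obtain ⟨d, rfl⟩ := h'; exact ⟨c * d, smul_smul c d z⟩

theorem par_vec_of_mem {a b : H} (h : a⁻¹ * b ∈ K) : Par (vec φ b) (vec φ a) := by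
  obtain ⟨c, hc'⟩ := hc.mem _ h
  refine ⟨c, ?_⟩
  rw [show b = a * (a⁻¹ * b) by group, vec_mul, show vec φ (a⁻¹ * b) = c • eI 0 from hc', smul_scalar]
  rfl

theorem herm_par {x y y' : Fin (k + 5) → F} (h : Par y' y) (h0 : herm q x y = 0) : herm q x y' = 0 := by
  obtain ⟨c, rfl⟩ := h; rw [herm_smul_right hF, h0, mul_zero]

theorem vec_s : vec φ s = eI 1 := hc.s0

theorem vec_right {x y : H} (hy : y ∈ K) : Par (vec φ (x * y)) (vec φ x) :=
  par_vec_of_mem hc hF (by rwa [inv_mul_cancel_left])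

theorem vec_xsy {x y : H} (hy : y ∈ K) : Par (vec φ (x * s * y)) (φ x • eI 1) := by
  have := vec_right hc hF (x := x * s) hy
  rwa [vec_mul x s, vec_s hc hF] at this

theorem adj_orth {a b : H} (h : Adj K s a b) : herm q (vec φ a) (vec φ b) = 0 := by
  obtain ⟨x, hx, y, hy, e⟩ := h
  rw [show a = a * 1 by group, show b = a * (a⁻¹ * b) by group, e, vec_mul, vec_mul, herm_smul_SU]
  refine herm_par hc hF (vec_xsy hc hF hy) ?_
  obtain ⟨c, hc'⟩ := par_symm hc hF (vec_norm hc hF x) (par_vec_of_mem hc hF (a := 1) (b := x) (by simpa using hx))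
  rw [hc', herm_smul_left, show (φ x • (eI 1 : Fin (k + 5) → F)) = φ x • eI 1 from rfl, vec, herm_smul_SU,
    herm_eI_eI hF, if_neg (by simp), mul_zero]

/-- Adjacent cosets with the same point are equal. -/
theorem same_of_par {p a b : H} (ha : Adj K s p a) (hb : Adj K s p b) (h : Par (vec φ b) (vec φ a)) :
    a⁻¹ * b ∈ K := by
  obtain ⟨x1, hx1, y1, hy1, e1⟩ := ha
  obtain ⟨x2, hx2, y2, hy2, e2⟩ := hb
  have hg : Par (φ (x1⁻¹ * x2) • (eI 1 : Fin (k + 5) → F)) (eI 1) := by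
    rw [show a = p * (x1 * s * y1) by rw [← e1]; group, show b = p * (x2 * s * y2) by rw [← e2]; group, vec_mul,
      vec_mul p] at h
    obtain ⟨c, h⟩ := h
    rw [← smul_scalar, smul_left_cancel_iff] at h
    have h2 : Par (φ x2 • eI 1) (φ x1 • (eI 1 : Fin (k + 5) → F)) :=
      par_trans hc hF (par_symm hc hF (vec_norm hc hF _) (vec_xsy hc hF hy2))
        (par_trans hc hF ⟨c, h⟩ (vec_xsy hc hF hy1))
    obtain ⟨d, hd⟩ := h2
    exact ⟨d, by rw [map_mul, mul_smul, hd, map_inv, smul_scalar, inv_smul_smul]⟩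
  have hmem := hc.stab _ (mul_mem (inv_mem hx1) hx2) hg
  rw [show a⁻¹ * b = (p⁻¹ * a)⁻¹ * (p⁻¹ * b) by group, e1, e2,
    show (x1 * s * y1)⁻¹ * (x2 * s * y2) = y1⁻¹ * (s⁻¹ * (x1⁻¹ * x2) * s) * y2 by group]
  exact mul_mem (mul_mem (inv_mem hy1) hmem) hy2

/-- The triangle relation. -/
theorem adj_of_orth {p a b : H} (ha : Adj K s p a) (hb : Adj K s p b) (h : herm q (vec φ a) (vec φ b) = 0) :
    Adj K s a b := by
  obtain ⟨x1, hx1, y1, hy1, e1⟩ := ha
  obtain ⟨x2, hx2, y2, hy2, e2⟩ := hb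
  set g := x1⁻¹ * x2 with hg
  have hgK : g ∈ K := mul_mem (inv_mem hx1) hx2
  set w := φ g • (eI 1 : Fin (k + 5) → F) with hw
  have hww : herm q w w = 1 := by rw [hw, herm_smul_SU, herm_eI_eI hF, if_pos rfl]
  have hw1 : herm q w (eI 1) = 0 := by
    rw [show a = p * (x1 * s * y1) by rw [← e1]; group, show b = p * (x2 * s * y2) by rw [← e2]; group, vec_mul,
      vec_mul p, herm_smul_SU] at h
    have h1 := herm_par hc hF (par_symm hc hF (vec_norm hc hF _) (vec_xsy hc hF hy2)) h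
    rw [herm_eq_zero_comm hF] at h1
    have h2 := herm_par hc hF (par_symm hc hF (vec_norm hc hF _) (vec_xsy hc hF hy1)) h1
    rw [← herm_smul_SU (φ x1⁻¹), ← mul_smul, ← map_mul, ← mul_smul, ← map_mul, inv_mul_cancel, map_one,
      one_smul] at h2
    exact h2
  have hw0 : herm q w (eI 0) = 0 := by
    obtain ⟨c, hc'⟩ := par_symm hc hF (vec_norm hc hF g) (par_vec_of_mem hc hF (a := 1) (b := g) (by simpa using hgK))
    have h1 : vec φ (1 : H) = (eI 0 : Fin (k + 5) → F) := by rw [vec, map_one, one_smul]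
    rw [h1] at hc'
    rw [hc', herm_smul_right hF, hw, vec, herm_smul_SU, herm_eI_eI hF, if_neg (by simp), mul_zero]
  obtain ⟨k1, hk1, hk1p, x, hx, y, hy, hrel⟩ := hc.tri
  obtain ⟨A, hA, hAw⟩ := exists_fixS_one hF (n := k + 5) (S := {0, 1})
    (by rw [Finset.card_compl, Fintype.card_fin]; simp)
    (eI_mem_supp (i := 2) (by simp [Fin.ext_iff, Nat.mod_eq_of_lt])) (x' := w)
    (by
      intro i hi
      simp only [Finset.mem_insert, Finset.mem_singleton] at hi
      rcases hi with rfl | rfl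
      · rw [← herm_eI_right hF 0 w, hw0]
      · rw [← herm_eI_right hF 1 w, hw1])
    (by rw [herm_eI_eI hF, if_pos rfl]) hww
  obtain ⟨at', hat, rfl⟩ := hc.lift A ⟨1, by rw [one_smul]; exact mem_fixS.1 hA 0 (by simp)⟩
  have h1 : s⁻¹ * at' * s ∈ K :=
    hc.stab _ hat ⟨1, by rw [one_smul]; exact mem_fixS.1 hA 1 (by simp)⟩
  have h2 : s⁻¹ * ((at' * k1)⁻¹ * g) * s ∈ K :=
    hc.stab _ (mul_mem (inv_mem (mul_mem hat hk1)) hgK) ⟨1, by
      rw [one_smul, map_mul, mul_smul, ← hw, map_inv, inv_smul_eq_iff, map_mul, mul_smul, hk1p, hAw]⟩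
  refine ⟨y1⁻¹ * (s⁻¹ * at' * s) * x, mul_mem (mul_mem (inv_mem hy1) h1) hx,
    y * (s⁻¹ * ((at' * k1)⁻¹ * g) * s) * y2, mul_mem (mul_mem hy h2) hy2, ?_⟩
  calc a⁻¹ * b = (p⁻¹ * a)⁻¹ * (p⁻¹ * b) := by group
    _ = y1⁻¹ * (s⁻¹ * at' * s) * (s⁻¹ * k1 * s) * (s⁻¹ * ((at' * k1)⁻¹ * g) * s) * y2 := by
      rw [e1, e2, hg]; group
    _ = _ := by rw [hrel]; group

/-- Every orthogonal point gives a neighbour. -/
theorem exists_adj (p : H) {z : Fin (k + 5) → F} (hz : herm q z z = 1) (hzp : herm q z (vec φ p) = 0) :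
    ∃ m, Adj K s p m ∧ vec φ m = z := by
  obtain ⟨A, hA, hAz⟩ := exists_fixS_one hF (n := k + 5) (S := {0})
    (by rw [Finset.card_compl, Fintype.card_fin]; simp)
    (eI_mem_supp (i := 1) (by simp [Fin.ext_iff, Nat.mod_eq_of_lt])) (x' := (φ p)⁻¹ • z)
    (by
      intro i hi
      rw [Finset.mem_singleton] at hi
      subst hi
      rw [← herm_eI_right hF 0 ((φ p)⁻¹ • z), ← herm_smul_SU (φ p), smul_inv_smul]
      exact hzp)
    (by rw [herm_eI_eI hF, if_pos rfl]) (by rw [herm_smul_SU, hz])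
  obtain ⟨a, ha, rfl⟩ := hc.lift A ⟨1, by rw [one_smul]; exact mem_fixS.1 hA 0 (by simp)⟩
  exact ⟨p * (a * s), ⟨a, ha, 1, one_mem K, by group⟩,
    by rw [vec_mul, vec_mul, vec_s hc hF, hAz, smul_inv_smul]⟩

theorem vec_one : vec φ (1 : H) = (eI 0 : Fin (k + 5) → F) := by rw [vec, map_one, one_smul]

/-- Middle points of `b`. -/
def Good (b : H) : Prop :=
  ∀ m, Adj K s 1 m → herm q (vec φ m) (vec φ b) = 0 → Adj K s m b

theorem adj_of_orth_mid {b m m' : H} (h1 : Adj K s 1 m) (h2 : Adj K s m b) (h1' : Adj K s 1 m')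
    (h : herm q (vec φ m') (vec φ b) = 0) (hmm : herm q (vec φ m) (vec φ m') = 0) : Adj K s m' b :=
  adj_of_orth hc hF (adj_of_orth hc hF h1 h1' hmm) h2 h

theorem adj_of_par_mid {b m m' : H} (h1 : Adj K s 1 m) (h2 : Adj K s m b) (h1' : Adj K s 1 m')
    (hmm : Par (vec φ m') (vec φ m)) : Adj K s m' b :=
  adj_congr_left (same_of_par hc hF h1 h1' hmm) h2

/-- The middle points are linked if the pair spans a non-degenerate plane. -/
theorem good_nondegenerate {b m : H} (h1 : Adj K s 1 m) (h2 : Adj K s m b)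
    (hc0 : herm q (vec φ b) (eI 0) ≠ 0) (hc1 : herm q (vec φ b) (eI 0) ^ (q + 1) ≠ 1) :
    ∀ m', Adj K s 1 m' → herm q (vec φ m') (vec φ b) = 0 → Adj K s m' b := by
  intro m' h1' h'
  by_cases hp : Par (vec φ m') (vec φ m)
  · exact adj_of_par_mid hc hF h1 h2 h1' hp
  have o : ∀ {x : H}, Adj K s 1 x → herm q (vec φ x) (eI 0) = 0 := fun hx => by
    rw [herm_eq_zero_comm hF, ← vec_one hc hF]; exact adj_orth hc hF hx
  obtain ⟨u, z, ⟨hu, hu0, huv, hum⟩, ⟨hz, hz0, hzv, hzm⟩, huz⟩ := exists_chain hF (n := k + 5) (by omega)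
    (p := eI 0) (v := vec φ b) (m := vec φ m) (m' := vec φ m') (by rw [herm_eI_eI hF, if_pos rfl])
    (vec_norm hc hF b) hc0 hc1 (vec_norm hc hF m) (vec_norm hc hF m') (o h1) (adj_orth hc hF h2) (o h1') h'
    (fun c e => hp ⟨c, e⟩)
  obtain ⟨mu, hmu, rfl⟩ := exists_adj hc hF 1 hu (by rwa [vec_one hc hF])
  obtain ⟨mz, hmz, rfl⟩ := exists_adj hc hF 1 hz (by rwa [vec_one hc hF])
  have e1 : Adj K s mu b := adj_of_orth_mid hc hF h1 h2 hmu huv ((herm_eq_zero_comm hF).1 hum)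
  have e2 : Adj K s mz b := by
    rcases huz with hpar | horth
    · exact adj_of_par_mid hc hF hmu e1 hmz hpar
    · exact adj_of_orth_mid hc hF hmu e1 hmz hzv horth
  exact adj_of_orth_mid hc hF hmz e2 h1' h' hzm

/-- The middle points are linked at the base vector of a degenerate plane. -/
theorem good_base {b m : H} (h1 : Adj K s 1 m) (h2 : Adj K s m b) (hb : Par (vec φ b) (v0 γ)) :
    ∀ m', Adj K s 1 m' → herm q (vec φ m') (vec φ b) = 0 → Adj K s m' b := by
  obtain ⟨a, ha, c, hcK, hm0, hz0, hfix⟩ := hc.base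
  set z0 := a * s * (c * s) with hz0def
  have A0 : Adj K s 1 (a * s) := ⟨a, ha, 1, one_mem K, by group⟩
  have A1 : Adj K s (a * s) z0 := ⟨c, hcK, 1, one_mem K, by rw [hz0def]; group⟩
  have hall : ∀ m', Adj K s 1 m' → herm q (vec φ m') (v0 γ) = 0 → Adj K s m' z0 := by
    intro m' h1' h'
    set z := vec φ m' with hzdef
    have hz0' : z 0 = 0 := by
      rw [← herm_eI_right hF 0 z, herm_eq_zero_comm hF, ← vec_one hc hF]; exact adj_orth hc hF h1'
    -- a pure middle point orthogonal to the given one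
    set e := z 1 • (eI 1 + γ • eI 2 : Fin (k + 5) → F) with he
    have hr : z 1 + γ ^ q * z 2 = 0 := by
      rw [v0, herm_add_right hF, herm_add_right hF, herm_smul_right hF, herm_eI_right hF, herm_eI_right hF,
        herm_eI_right hF, hz0', zero_add] at h'
      exact h'
    have hz2 : z 2 = γ * z 1 := by
      have hn := hc.norm
      rw [pow_succ] at hn
      linear_combination -γ * hr + z 2 * hn
    set u := z - e with hu
    have hu012 : u 0 = 0 ∧ u 1 = 0 ∧ u 2 = 0 := by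
      refine ⟨?_, ?_, ?_⟩
      · simp [hu, he, eI, Fin.ext_iff, Nat.mod_eq_of_lt, hz0']
      · simp [hu, he, eI, Fin.ext_iff, Nat.mod_eq_of_lt]
      · simp [hu, he, eI, Fin.ext_iff, Nat.mod_eq_of_lt, hz2, mul_comm]
    have hsupp : ∀ {x : Fin (k + 5) → F}, x 0 = 0 → x 1 = 0 → x 2 = 0 →
        herm q x e = 0 ∧ herm q e x = 0 := fun {x} x0 x1 x2 => by
      have : herm q x e = 0 := by
        rw [he, herm_smul_right hF, herm_add_right hF, herm_smul_right hF, herm_eI_right hF, herm_eI_right hF, x1,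
          x2, mul_zero, add_zero, mul_zero]
      exact ⟨this, (herm_eq_zero_comm hF).1 this⟩
    have hee : herm q e e = 0 := by
      have hn := hc.norm
      rw [pow_succ] at hn
      rw [he, herm_smul_left, herm_smul_right hF, herm_add_left, herm_add_right hF, herm_add_right hF,
        herm_smul_left, herm_smul_left, herm_smul_right hF, herm_smul_right hF, herm_eI_eI hF, herm_eI_eI hF,
        herm_eI_eI hF, herm_eI_eI hF]
      simp [Fin.ext_iff, Nat.mod_eq_of_lt]
      exact Or.inr (Or.inr (by linear_combination hn))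
    have huu : herm q u u = 1 := by
      have h0 := vec_norm hc hF m'
      rw [← hzdef, show z = u + e by rw [hu, sub_add_cancel], herm_add_left, herm_add_right hF, herm_add_right hF,
        (hsupp hu012.1 hu012.2.1 hu012.2.2).1, (hsupp hu012.1 hu012.2.1 hu012.2.2).2, hee] at h0
      simpa using h0
    have ho : Orth q ![(eI 0 : Fin (k + 5) → F), eI 1, eI 2, u] :=
      orth_four hF (by simp [herm_eI_eI hF]) (by simp [herm_eI_eI hF]) (by simp [herm_eI_eI hF]) (by simp [huu])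
        (by simp [herm_eI_eI hF, Fin.ext_iff, Nat.mod_eq_of_lt]) (by simp [herm_eI_eI hF, Fin.ext_iff, Nat.mod_eq_of_lt])
        (by rw [herm_eI_left, hu012.1, zero_pow_q hF]) (by simp [herm_eI_eI hF, Fin.ext_iff, Nat.mod_eq_of_lt])
        (by rw [herm_eI_left, hu012.2.1, zero_pow_q hF]) (by rw [herm_eI_left, hu012.2.2, zero_pow_q hF])
    obtain ⟨u', hu', hu'p⟩ := exists_norm_one_perp hF ho (by omega)
    have p0 : u' 0 = 0 := by rw [← herm_eI_right hF 0 u']; exact hu'p 0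
    have p1 : u' 1 = 0 := by rw [← herm_eI_right hF 1 u']; exact hu'p 1
    have p2 : u' 2 = 0 := by rw [← herm_eI_right hF 2 u']; exact hu'p 2
    have hu'z : herm q u' z = 0 := by
      rw [show z = u + e by rw [hu, sub_add_cancel], herm_add_right hF, (hsupp p0 p1 p2).1,
        show herm q u' u = 0 from hu'p 3, add_zero]
    obtain ⟨σ, hσ, hσu⟩ := exists_fixS_one hF (n := k + 5) (S := {0, 1, 2})
      (by rw [Finset.card_compl, Fintype.card_fin]; simp [Fin.ext_iff, Nat.mod_eq_of_lt])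
      (eI_mem_supp (i := 3) (by simp [Fin.ext_iff, Nat.mod_eq_of_lt])) (x' := u')
      (by
        intro i hi
        simp only [Finset.mem_insert, Finset.mem_singleton] at hi
        rcases hi with rfl | rfl | rfl <;> assumption)
      (by rw [herm_eI_eI hF, if_pos rfl]) hu'
    obtain ⟨x, hx, hxσ⟩ := hc.lift σ ⟨1, by rw [one_smul]; exact mem_fixS.1 hσ 0 (by simp)⟩
    have hmid : Adj K s 1 (x * (a * s)) := by
      refine adj_congr_left (a := x) ?_ ?_
      · rw [mul_one]; exact inv_mem hx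
      · simpa using (adj_mul_left (g := x)).2 A0
    have hmidz : Adj K s (x * (a * s)) z0 := by
      refine adj_congr_right ?_ ((adj_mul_left (g := x)).2 A1)
      have := hfix σ hσ x hx hxσ
      rw [show (x * z0)⁻¹ * z0 = (z0⁻¹ * x * z0)⁻¹ by group]
      exact inv_mem this
    have hv : vec φ (x * (a * s)) = u' := by
      rw [vec_mul, show vec φ (a * s) = eI 3 from hm0, hxσ, hσu]
    refine adj_of_orth_mid hc hF hmid hmidz h1' ?_ (by rw [hv, ← hzdef]; exact hu'z)
    rw [show vec φ z0 = v0 γ from hz0, ← hzdef]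
    exact h'
  have hmz : Adj K s m z0 := hall m h1 (herm_par hc hF (par_symm hc hF (vec_norm hc hF b) hb) (adj_orth hc hF h2))
  have hsame : z0⁻¹ * b ∈ K := same_of_par hc hF hmz h2 (by rw [show vec φ z0 = v0 γ from hz0]; exact hb)
  intro m' h1' h'
  exact adj_congr_right hsame (hall m' h1' (herm_par hc hF (par_symm hc hF (vec_norm hc hF b) hb) h'))

/-- All middle points of a point at distance two give the same lift. -/
theorem good_of_mid {b m : H} (h1 : Adj K s 1 m) (h2 : Adj K s m b) (hb : ¬ Par (vec φ b) (eI 0))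
    (hc0 : herm q (vec φ b) (eI 0) ≠ 0) :
    ∀ m', Adj K s 1 m' → herm q (vec φ m') (vec φ b) = 0 → Adj K s m' b := by
  by_cases hc1 : herm q (vec φ b) (eI 0) ^ (q + 1) = 1
  swap
  · exact good_nondegenerate hc hF h1 h2 hc0 hc1
  set c := herm q (vec φ b) (eI 0) with hcdef
  set r : Fin (k + 5) → F := c⁻¹ • vec φ b - eI 0 with hr
  have e0 : herm q (eI 0) (eI 0 : Fin (k + 5) → F) = 1 := by rw [herm_eI_eI hF, if_pos rfl]
  have hr0 : herm q r (eI 0) = 0 := by
    rw [hr, herm_sub_left, herm_smul_left, ← hcdef, inv_mul_cancel₀ hc0, e0, sub_self]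
  have hrr : herm q r r = 0 := by
    rw [show herm q r r = herm q r (c⁻¹ • vec φ b) by rw [hr, herm_sub_right hF, hr0, sub_zero], herm_smul_right hF,
      hr, herm_sub_left, herm_smul_left, vec_norm hc hF, herm_swap hF (vec φ b) (eI 0), ← hcdef]
    rw [pow_succ] at hc1
    have hinv : c⁻¹ = c ^ q := inv_eq_of_mul_eq_one_right (by rw [mul_comm]; exact hc1)
    rw [hinv]
    ring
  have hrne : r ≠ 0 := fun e => hb ⟨c, by
    rw [show (eI 0 : Fin (k + 5) → F) = c⁻¹ • vec φ b from (sub_eq_zero.1 (hr ▸ e)).symm, smul_smul,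
      mul_inv_cancel₀ hc0, one_smul]⟩
  obtain ⟨x, y, hxy, hxx, hyy, hxy0, hxp, hyp⟩ :=
    exists_split hF (a := ![(eI 0 : Fin (k + 5) → F)]) (orth_one hF (by rw [e0]; exact one_ne_zero)) hrr hrne
      (fun i => by rw [Subsingleton.elim i 0]; exact hr0)
  have hγ : γ ≠ 0 := fun e => by
    have := hc.norm; rw [e, zero_pow (by omega)] at this; exact one_ne_zero (neg_eq_zero.1 this.symm)
  have hn := hc.norm
  rw [pow_succ] at hn
  obtain ⟨A, hA, hAx, hAy⟩ := exists_fixS_two hF (n := k + 5) (S := {0})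
    (by rw [Finset.card_compl, Fintype.card_fin]; simp) (a := x) (b := γ⁻¹ • y) (a' := eI 1) (b' := eI 2)
    (fun i hi => by rw [Finset.mem_singleton.1 hi, ← herm_eI_right hF 0 x]; exact hxp 0)
    (fun i hi => by
      rw [Finset.mem_singleton.1 hi, Pi.smul_apply, ← herm_eI_right hF 0 y, show herm q y (eI 0) = 0 from hyp 0,
        smul_zero])
    (eI_mem_supp (by simp [Fin.ext_iff, Nat.mod_eq_of_lt])) (eI_mem_supp (by simp [Fin.ext_iff, Nat.mod_eq_of_lt])) hxx
    (by
      rw [herm_smul_left, herm_smul_right hF, hyy, inv_pow]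
      have : γ ^ q ≠ 0 := pow_ne_zero _ hγ
      field_simp
      linear_combination -hn)
    (by rw [herm_smul_right hF, hxy0, mul_zero]) (by rw [herm_eI_eI hF, if_pos rfl]) (by rw [herm_eI_eI hF, if_pos rfl])
    (by rw [herm_eI_eI hF, if_neg (by simp [Fin.ext_iff, Nat.mod_eq_of_lt])])
  obtain ⟨g, hg, rfl⟩ := hc.lift A ⟨1, by rw [one_smul]; exact mem_fixS.1 hA 0 (by simp)⟩
  have hy' : φ g • y = γ • eI 2 := by
    rw [show y = γ • γ⁻¹ • y by rw [smul_smul, mul_inv_cancel₀ hγ, one_smul], smul_scalar, hAy]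
  have hgb : Par (vec φ (g * b)) (v0 γ) := ⟨c, by
    rw [vec_mul, v0, show vec φ b = c • (eI 0 + (x + y)) by
      rw [← hxy, hr, add_sub_cancel, smul_smul, mul_inv_cancel₀ hc0, one_smul], smul_scalar, smul_add (φ g), smul_add (φ g),
      mem_fixS.1 hA 0 (by simp), hAx, hy']⟩
  have hg1 : ∀ {m' : H}, Adj K s 1 m' → Adj K s 1 (g * m') := fun h =>
    adj_congr_left (a := g) (by rw [mul_one]; exact inv_mem hg) (by simpa using (adj_mul_left (g := g)).2 h)
  intro m' h1' h'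
  refine (adj_mul_left (g := g)).1 (good_base hc hF (hg1 h1) ((adj_mul_left (g := g)).2 h2) hgb _ (hg1 h1') ?_)
  rw [vec_mul, vec_mul, herm_smul_SU]
  exact h'

/-- The lifting property. -/
def Lifted (h : H) : Prop :=
  (Par (vec φ h) (eI 0) → h ∈ K) ∧ (herm q (vec φ h) (eI 0) = 0 → Adj K s 1 h) ∧
    (¬ Par (vec φ h) (eI 0) → herm q (vec φ h) (eI 0) ≠ 0 → Good (φ := φ) (K := K) (s := s) (q := q) h)

theorem lifted_one : Lifted (φ := φ) (K := K) (s := s) (1 : H) :=
  ⟨fun _ => one_mem K, fun h => by rw [vec_one hc hF, herm_eI_eI hF, if_pos rfl] at h; exact absurd h one_ne_zero,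
    fun h => absurd ⟨1, by rw [vec_one hc hF, one_smul]⟩ h⟩

theorem lifted_mul_mem {h x : H} (hh : Lifted (φ := φ) (K := K) (s := s) h) (hx : x ∈ K) :
    Lifted (φ := φ) (K := K) (s := s) (h * x) := by
  have hp : Par (vec φ (h * x)) (vec φ h) := vec_right hc hF hx
  have hp' := par_symm hc hF (vec_norm hc hF _) hp
  have hz : ∀ {z : Fin (k + 5) → F}, herm q (vec φ (h * x)) z = 0 → herm q (vec φ h) z = 0 := fun {z} e =>
    (herm_eq_zero_comm hF).1 (herm_par hc hF hp' ((herm_eq_zero_comm hF).1 e))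
  refine ⟨fun e => mul_mem (hh.1 (par_trans hc hF hp' e)) hx,
    fun e => adj_congr_right (by rwa [inv_mul_cancel_left]) (hh.2.1 (hz e)), fun h1 h2 m hm hm' => ?_⟩
  refine adj_congr_right (by rwa [inv_mul_cancel_left]) (hh.2.2 (fun e => h1 (par_trans hc hF hp e)) (fun e => h2 ?_)
    m hm (herm_par hc hF hp' hm'))
  exact (herm_eq_zero_comm hF).1 (herm_par hc hF hp ((herm_eq_zero_comm hF).1 e))

theorem lifted_adj {h b : H} (hh : Lifted (φ := φ) (K := K) (s := s) h) (hb : Adj K s h b) :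
    Lifted (φ := φ) (K := K) (s := s) b := by
  have e1 := vec_one (φ := φ) hc hF
  have e0 : herm q (eI 0) (eI 0 : Fin (k + 5) → F) = 1 := by rw [herm_eI_eI hF, if_pos rfl]
  have hor := adj_orth hc hF hb
  have fromK : h ∈ K → Adj K s 1 b := fun hK => adj_congr_left (by simpa using hK) hb
  have orth0 : ∀ {x : H}, Adj K s 1 x → herm q (vec φ x) (eI 0) = 0 := fun hx => by
    rw [herm_eq_zero_comm hF, ← e1]; exact adj_orth hc hF hx
  refine ⟨fun hp => ?_, fun hp => ?_, fun hp1 hp2 => ?_⟩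
  · have : Adj K s h 1 := adj_symm hc (hh.2.1 (herm_par hc hF (par_symm hc hF (vec_norm hc hF b) hp) hor))
    simpa using same_of_par hc hF this hb (by rwa [e1])
  · by_cases hP : Par (vec φ h) (eI 0)
    · exact fromK (hh.1 hP)
    by_cases hO : herm q (vec φ h) (eI 0) = 0
    · exact adj_of_orth hc hF (adj_symm hc (hh.2.1 hO)) hb (by rw [e1, herm_eq_zero_comm hF]; exact hp)
    obtain ⟨z, hz, hz0, hzb, hzh⟩ := exists_common hF (n := k + 5) (by omega) (vec φ h) (v := eI 0)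
      (w := vec φ b) e0 (vec_norm hc hF b) ((herm_eq_zero_comm hF).1 hp)
    obtain ⟨m, hm, rfl⟩ := exists_adj hc hF 1 hz (by rwa [e1])
    have hmb : Adj K s m b := adj_of_orth hc hF (adj_symm hc (hh.2.2 hP hO m hm hzh)) hb hzb
    exact adj_of_orth hc hF (adj_symm hc hm) hmb (by rw [e1, herm_eq_zero_comm hF]; exact hp)
  · by_cases hP : Par (vec φ h) (eI 0)
    · exact absurd (orth0 (fromK (hh.1 hP))) hp2
    by_cases hO : herm q (vec φ h) (eI 0) = 0
    · exact good_of_mid hc hF (hh.2.1 hO) hb hp1 hp2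
    obtain ⟨z, hz, hzh, hzb, hz0⟩ := exists_common hF (n := k + 5) (by omega) (eI 0) (v := vec φ h)
      (w := vec φ b) (vec_norm hc hF h) (vec_norm hc hF b) hor
    obtain ⟨m, hm, rfl⟩ := exists_adj hc hF 1 hz (by rwa [e1])
    exact good_of_mid hc hF hm (adj_of_orth hc hF (adj_symm hc (hh.2.2 hP hO m hm hzh)) hb hzb) hp1 hp2

/-- The covering map is injective. -/
theorem cov_injective (h : H) (hh : φ h = 1) : h = 1 := by
  have key : ∀ h, Lifted (φ := φ) (K := K) (s := s) h := fun h => by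
    have hmem : h ∈ Subgroup.closure ((K : Set H) ∪ {s}) := hc.gen ▸ Subgroup.mem_top h
    induction hmem using Subgroup.closure_induction_right with
    | one => exact lifted_one hc hF
    | mul_right x y _ hy hx =>
      rcases hy with hy | hy
      · exact lifted_mul_mem hc hF hx hy
      · rw [Set.mem_singleton_iff.1 hy]
        exact lifted_adj hc hF hx ⟨1, one_mem K, 1, one_mem K, by group⟩
    | mul_inv_cancel x y _ hy hx =>
      rcases hy with hy | hy
      · exact lifted_mul_mem hc hF hx (inv_mem hy)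
      · rw [Set.mem_singleton_iff.1 hy]
        exact lifted_adj hc hF hx ⟨(s * s)⁻¹, inv_mem hc.ss, 1, one_mem K, by group⟩
  exact hc.inj h ((key h).1 ⟨1, by rw [vec, hh, one_smul, one_smul]⟩) hh

end Cfsg.Agent.KSG55.SUStep
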