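import Cfsg.Agent.KSG55.SUStep.Geom

/-!
`SU_m` as the point stabiliser in `SU_(m+1)`, and the elements used by the step.
-/

set_option autoImplicit false
set_option linter.unusedSectionVars false

namespace Cfsg.Agent.KSG55.SUStep

open Cfsg.Agent.Unitary Matrix

variable {F : Type*} [Field F] [Fintype F] {m q : ℕ}

/-- The matrix `1 ⊕ A`. -/
def up (A : Matrix (Fin m) (Fin m) F) : Matrix (Fin (m + 1)) (Fin (m + 1)) F :=
  Matrix.of (Fin.cons (Fin.cons 1 0) fun i => Fin.cons 0 (A i))

theorem up_mulVec (A : Matrix (Fin m) (Fin m) F) (v : Fin (m + 1) → F) :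
    up A *ᵥ v = Fin.cons (v 0) (A *ᵥ Fin.tail v) := by
  funext i
  induction i using Fin.cases with
  | zero => simp [up, Matrix.mulVec, dotProduct, Fin.sum_univ_succ]
  | succ i => simp [up, Matrix.mulVec, dotProduct, Fin.sum_univ_succ, Fin.tail]

theorem det_up (A : Matrix (Fin m) (Fin m) F) : (up A).det = A.det := by
  rw [Matrix.det_succ_row_zero, Fin.sum_univ_succ, Finset.sum_eq_zero fun j _ => by simp [up]]
  simp [up, Matrix.submatrix, Fin.succAbove_zero]
  rfl

theorem herm_cons₂ (x y : F) (v w : Fin m → F) :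
    herm q (Fin.cons x v : Fin (m + 1) → F) (Fin.cons y w) = x * y ^ q + herm q v w := by
  simp only [herm, hermForm, Fin.sum_univ_succ, Fin.cons_zero, Fin.cons_succ]

theorem smul_eq_mulVec {n : ℕ} (g : SU n F q) (v : Fin n → F) : g • v = (g.1 : Matrix (Fin n) (Fin n) F) *ᵥ v := rfl

/-- The element `1 ⊕ A`. -/
def upS (A : SU m F q) : SU (m + 1) F q :=
  ⟨⟨up (A.1 : Matrix (Fin m) (Fin m) F), by rw [det_up]; exact A.1.2⟩, fun u v => by
    show herm q (up (A.1 : Matrix (Fin m) (Fin m) F) *ᵥ u) (up (A.1 : Matrix (Fin m) (Fin m) F) *ᵥ v) = herm q u v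
    rw [up_mulVec, up_mulVec, herm_cons₂, show herm q ((A.1 : Matrix (Fin m) (Fin m) F) *ᵥ Fin.tail u)
      ((A.1 : Matrix (Fin m) (Fin m) F) *ᵥ Fin.tail v) = herm q (Fin.tail u) (Fin.tail v) from
        A.2 (Fin.tail u) (Fin.tail v), ← herm_cons₂, Fin.cons_self_tail, Fin.cons_self_tail]⟩

theorem upS_smul (A : SU m F q) (v : Fin (m + 1) → F) :
    upS A • v = (Fin.cons (v 0) (A • Fin.tail v) : Fin (m + 1) → F) := up_mulVec _ v

/-- The embedding. -/
def emb : SU m F q →* SU (m + 1) F q where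
  toFun := upS
  map_one' := eq_of_smul_eq_SU fun v => by rw [upS_smul, one_smul, one_smul, Fin.cons_self_tail]
  map_mul' A B := eq_of_smul_eq_SU fun v => by
    rw [mul_smul, upS_smul, upS_smul, upS_smul, Fin.cons_zero, Fin.tail_cons, mul_smul]

theorem emb_smul (A : SU m F q) (v : Fin (m + 1) → F) :
    emb A • v = (Fin.cons (v 0) (A • Fin.tail v) : Fin (m + 1) → F) := upS_smul A v

theorem emb_injective : Function.Injective (emb : SU m F q → SU (m + 1) F q) := fun A B h =>
  eq_of_smul_eq_SU fun v => by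
    have := congrArg (fun g : SU (m + 1) F q => Fin.tail (g • (Fin.cons 0 v : Fin (m + 1) → F))) h
    simpa [emb_smul] using this

theorem eI_succ (i : Fin m) : (eI i.succ : Fin (m + 1) → F) = Fin.cons 0 (eI i) := by
  funext j
  induction j using Fin.cases with
  | zero => simp [eI, (Fin.succ_ne_zero i).symm]
  | succ j => simp [eI, Pi.single_apply]

theorem eI_zero : (eI 0 : Fin (m + 1) → F) = Fin.cons 1 0 := by
  funext j
  induction j using Fin.cases with
  | zero => simp [eI]
  | succ j => simp [eI, Fin.succ_ne_zero]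

theorem emb_fix_zero (A : SU m F q) : emb A • (eI 0 : Fin (m + 1) → F) = eI 0 := by
  rw [emb_smul, eI_zero, Fin.tail_cons, Fin.cons_zero, smul_eq_mulVec, Matrix.mulVec_zero]

theorem emb_mem_fixS {S : Finset (Fin m)} {A : SU m F q} :
    emb A ∈ (fixS (insert 0 (S.map (Fin.succEmb m))) : Subgroup (SU (m + 1) F q)) ↔ A ∈ fixS S := by
  rw [mem_fixS, mem_fixS]
  constructor
  · intro h i hi
    have := h i.succ (Finset.mem_insert_of_mem (Finset.mem_map_of_mem _ hi))
    rw [eI_succ, emb_smul, Fin.tail_cons] at this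
    exact (Fin.cons_inj.1 this).2
  · intro h i hi
    rcases Finset.mem_insert.1 hi with rfl | hi
    · exact emb_fix_zero A
    · obtain ⟨j, hj, rfl⟩ := Finset.mem_map.1 hi
      rw [Fin.coe_succEmb, eI_succ, emb_smul, Fin.tail_cons, h j hj, Fin.cons_zero]

variable (hF : Fintype.card F = q ^ 2)

include hF

theorem exists_emb {g : SU (m + 1) F q} (hg : g • (eI 0 : Fin (m + 1) → F) = eI 0) : ∃ A, emb A = g := by
  classical
  set M : Matrix (Fin m) (Fin m) F := Matrix.of fun i j => (g.1 : Matrix (Fin (m + 1)) (Fin (m + 1)) F) i.succ j.succ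
    with hM
  have hs : ∀ x : Fin m → F, g • (Fin.cons 0 x : Fin (m + 1) → F) = Fin.cons 0 (M *ᵥ x) := fun x => by
    funext i
    induction i using Fin.cases with
    | zero =>
      rw [Fin.cons_zero, ← herm_eI_right hF 0 (g • (Fin.cons 0 x : Fin (m + 1) → F)), ← hg, herm_smul_SU,
        herm_eI_right hF, Fin.cons_zero]
    | succ i =>
      rw [Fin.cons_succ, smul_eq_mulVec]
      simp [Matrix.mulVec, dotProduct, Fin.sum_univ_succ, hM]
  have hv : ∀ v : Fin (m + 1) → F, g • v = (up M *ᵥ v) := fun v => by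
    rw [up_mulVec]
    conv_lhs => rw [show v = v 0 • eI 0 + (Fin.cons 0 (Fin.tail v) : Fin (m + 1) → F) by
      funext j
      induction j using Fin.cases with
      | zero => simp [eI]
      | succ j => simp [eI, Fin.succ_ne_zero, Fin.tail]]
    rw [smul_eq_mulVec, Matrix.mulVec_add, Matrix.mulVec_smul, ← smul_eq_mulVec, ← smul_eq_mulVec, hg, hs]
    funext j
    induction j using Fin.cases with
    | zero => simp [eI]
    | succ j => simp [eI, Fin.succ_ne_zero, Fin.tail]
  have heq : (g.1 : Matrix (Fin (m + 1)) (Fin (m + 1)) F) = up M :=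
    Matrix.ext_of_mulVec_single fun i => hv (Pi.single i 1)
  refine ⟨⟨⟨M, by rw [← det_up, ← heq]; exact g.1.2⟩, fun u v => ?_⟩, eq_of_smul_eq_SU fun v => ?_⟩
  · have := herm_smul_SU g (Fin.cons 0 u) (Fin.cons 0 v)
    rw [hs, hs, herm_cons₂, herm_cons₂, zero_mul, zero_add, zero_add] at this
    exact this
  · rw [emb_smul, hv, up_mulVec]
    rfl

theorem range_emb : (emb : SU m F q →* SU (m + 1) F q).range = fixS {0} := by
  ext g
  constructor
  · rintro ⟨A, rfl⟩
    exact mem_fixS.2 fun i hi => by rw [Finset.mem_singleton.1 hi]; exact emb_fix_zero A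
  · intro hg
    exact exists_emb hF (mem_fixS.1 hg 0 (Finset.mem_singleton_self 0))

theorem map_fixS (S : Finset (Fin m)) :
    (fixS S : Subgroup (SU m F q)).map emb = fixS (insert 0 (S.map (Fin.succEmb m))) := by
  ext g
  constructor
  · rintro ⟨A, hA, rfl⟩
    exact emb_mem_fixS.2 hA
  · intro hg
    obtain ⟨A, rfl⟩ := exists_emb hF (mem_fixS.1 hg 0 (Finset.mem_insert_self _ _))
    exact ⟨A, emb_mem_fixS.1 hg, rfl⟩

/-- A diagonal element with two inverse entries. -/
theorem exists_diag {n : ℕ} {i j : Fin n} (hij : i ≠ j) {μ : F} (hμ : μ ^ (q + 1) = 1) :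
    ∃ g : SU n F q, g • (eI i : Fin n → F) = μ⁻¹ • eI i ∧ g • (eI j : Fin n → F) = μ • eI j ∧
      ∀ k, k ≠ i → k ≠ j → g • (eI k : Fin n → F) = eI k := by
  classical
  have hμ0 : μ ≠ 0 := fun e => by rw [e, zero_pow (by omega)] at hμ; exact zero_ne_one hμ
  set w : Fin n → F := fun k => if k = i then μ⁻¹ else if k = j then μ else 1 with hw
  have hn : ∀ k, w k * w k ^ q = 1 := fun k => by
    rw [← pow_succ', hw]
    dsimp only
    split_ifs
    · rw [inv_pow, hμ, inv_one]
    · exact hμ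
    · exact one_pow _
  have hdet : (Matrix.diagonal w).det = 1 := by
    rw [Matrix.det_diagonal, ← Finset.mul_prod_erase _ _ (Finset.mem_univ i),
      ← Finset.mul_prod_erase _ _ (Finset.mem_erase.2 ⟨hij.symm, Finset.mem_univ j⟩), Finset.prod_eq_one]
    · simp [hw, hij.symm, inv_mul_cancel₀ hμ0]
    · intro k hk
      simp only [Finset.mem_erase] at hk
      simp [hw, hk.1, hk.2.1]
  have hM : ∀ u v : Fin n → F, herm q (Matrix.diagonal w *ᵥ u) (Matrix.diagonal w *ᵥ v) = herm q u v := by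
    intro u v
    simp only [herm, hermForm, Matrix.mulVec_diagonal]
    refine Finset.sum_congr rfl fun k _ => ?_
    rw [mul_pow]
    linear_combination u k * v k ^ q * hn k
  let g : SU n F q := ⟨⟨Matrix.diagonal w, hdet⟩, hM⟩
  have hg : ∀ k, g • (eI k : Fin n → F) = w k • eI k := fun k => by
    show Matrix.diagonal w *ᵥ (eI k : Fin n → F) = w k • eI k
    funext l
    rw [Matrix.mulVec_diagonal]
    by_cases hl : l = k
    · subst hl; rfl
    · simp [eI, hl]
  exact ⟨g, by rw [hg]; simp [hw], by rw [hg]; simp [hw, hij.symm], fun k h1 h2 => by rw [hg]; simp [hw, h1, h2]⟩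

/-- A generator of the group of norm one scalars. -/
theorem exists_norm_gen : ∃ ω : F, ω ^ (q + 1) = 1 ∧ ω ≠ 0 ∧ 0 < orderOf ω ∧
    ∀ c : F, c ^ (q + 1) = 1 → ∃ i : ℕ, ω ^ i = c := by
  obtain ⟨g, hg⟩ := IsCyclic.exists_monoid_generator (α := (powMonoidHom (q + 1) : Fˣ →* Fˣ).ker)
  refine ⟨((g : Fˣ) : F), ?_, Units.ne_zero _, ?_, fun c hc => ?_⟩
  · rw [← Units.val_pow_eq_pow_val, show (g : Fˣ) ^ (q + 1) = 1 from g.2, Units.val_one]
  · rw [orderOf_units]
    exact orderOf_pos _
  · have hc0 : c ≠ 0 := fun e => by rw [e, zero_pow (by omega)] at hc; exact zero_ne_one hc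
    obtain ⟨i, hi⟩ := hg ⟨Units.mk0 c hc0, Units.ext (by simpa using hc)⟩
    exact ⟨i, by simpa using congrArg (fun u : (powMonoidHom (q + 1) : Fˣ →* Fˣ).ker => ((u : Fˣ) : F)) hi⟩

end Cfsg.Agent.KSG55.SUStep
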