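import Cfsg.Agent.KSG55.SUStep.Cover
import Cfsg.Agent.KSG55.SUStep.Emb
import Cfsg.Agent.KSG55.Pres.HomOf

/-!
The step: from a presentation of `SU_m` on two generators to one of `SU_(m+1)` on four generators, with eleven
further relations, for `m ≥ 4`.
-/

set_option autoImplicit false
set_option linter.unusedSectionVars false

namespace Cfsg.Agent.KSG55.SUStep

open Cfsg.Agent.Unitary Cfsg.Agent.KSG55.Pres

variable {F : Type*} [Field F] [Fintype F] {k q : ℕ} (hF : Fintype.card F = q ^ 2)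

/-- Membership of the value of a word in a subgroup. -/
theorem lift_mem {ι : Type*} {H : Type*} [Group H] {U : ι → H} {K : Subgroup H} {S : Set (FreeGroup ι)}
    (hS : ∀ x ∈ S, FreeGroup.lift U x ∈ K) {w : FreeGroup ι} (hw : w ∈ Subgroup.closure S) :
    FreeGroup.lift U w ∈ K :=
  (Subgroup.closure_le (K.comap (FreeGroup.lift U))).2 hS hw

/-- A conjugation condition known on generators of the image holds on the whole preimage. -/
theorem conj_mem_of_closure {H G : Type*} [Group H] [Group G] {φ : H →* G} {K : Subgroup H}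
    (inj : ∀ x ∈ K, φ x = 1 → x = 1) {t : H} {S : Set G} (hS : ∀ g ∈ S, ∃ x ∈ K, φ x = g ∧ t⁻¹ * x * t ∈ K)
    {x : H} (hx : x ∈ K) (hg : φ x ∈ Subgroup.closure S) : t⁻¹ * x * t ∈ K := by
  let T : Subgroup H := K ⊓ K.comap (MulAut.conj t⁻¹).toMonoidHom
  have hT : Subgroup.closure S ≤ T.map φ := (Subgroup.closure_le _).2 fun g hg => by
    obtain ⟨y, hy, rfl, hyt⟩ := hS g hg
    exact ⟨y, ⟨hy, by simpa [MulAut.conj_apply] using hyt⟩, rfl⟩
  obtain ⟨y, ⟨hy, hyt⟩, e⟩ := hT hg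
  have hxy : y⁻¹ * x = 1 := inj _ (mul_mem (inv_mem hy) hx) (by rw [map_mul, map_inv, e, inv_mul_cancel])
  rw [← inv_mul_eq_one.1 hxy]
  simpa [MulAut.conj_apply] using hyt

include hF

theorem eI_norm {n : ℕ} (i : Fin n) : herm q (eI i) (eI i : Fin n → F) = 1 := by rw [herm_eI_eI hF, if_pos rfl]

theorem scalar_norm {n : ℕ} {g : SU n F q} {i : Fin n} {c : F} (h : g • (eI i : Fin n → F) = c • eI i) :
    c ^ (q + 1) = 1 := by
  have := herm_smul_SU g (eI i) (eI i)
  rw [h, herm_smul_left, herm_smul_right hF, eI_norm hF, mul_one] at this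
  rw [pow_succ']
  exact this

omit hF in
theorem pow_smul_line {n : ℕ} {g : SU n F q} {i : Fin n} {c : F} (h : g • (eI i : Fin n → F) = c • eI i) :
    ∀ j : ℕ, g ^ j • (eI i : Fin n → F) = c ^ j • eI i := by
  intro j
  induction j with
  | zero => simp
  | succ j ih => rw [pow_succ, mul_smul, h, smul_scalar, ih, smul_smul, pow_succ']

omit hF in
theorem pow_smul_fix {n : ℕ} {g : SU n F q} {v : Fin n → F} (h : g • v = v) : ∀ j : ℕ, g ^ j • v = v := by
  intro j
  induction j with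
  | zero => simp
  | succ j ih => rw [pow_succ, mul_smul, h, ih]

/-- The stabiliser of a coordinate line. -/
def lineStab {n : ℕ} (i : Fin n) : Subgroup (SU n F q) where
  carrier := {g | ∃ c : F, g • (eI i : Fin n → F) = c • eI i}
  one_mem' := ⟨1, by rw [one_smul, one_smul]⟩
  mul_mem' := by
    rintro a b ⟨c, hc⟩ ⟨d, hd⟩
    exact ⟨d * c, by rw [mul_smul, hd, smul_scalar, hc, smul_smul]⟩
  inv_mem' := by
    rintro a ⟨c, hc⟩
    have hc0 : c ≠ 0 := fun e => by
      have := scalar_norm hF hc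
      rw [e, zero_pow (by omega)] at this
      exact zero_ne_one this
    refine ⟨c⁻¹, ?_⟩
    rw [inv_smul_eq_iff, smul_scalar, hc, smul_smul, inv_mul_cancel₀ hc0, one_smul]

theorem map_pair {n : ℕ} {S : Finset (Fin n)} {a b : SU n F q}
    (h : Subgroup.closure {a, b} = (fixS S : Subgroup (SU n F q))) :
    Subgroup.closure {emb a, emb b} = (fixS (insert 0 (S.map (Fin.succEmb n))) : Subgroup (SU (n + 1) F q)) := by
  rw [← map_fixS hF, ← h, MonoidHom.map_closure, Set.image_pair]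

theorem fixS_empty {n : ℕ} : (fixS ∅ : Subgroup (SU n F q)) = ⊤ := by
  rw [eq_top_iff]; intro g _; exact mem_fixS.2 fun i hi => absurd hi (Finset.notMem_empty i)

/-- Generators for the pointwise stabilisers of two and of three coordinate vectors. -/
theorem exists_gens (h1 : ∃ a b : SU (k + 3) F q, Subgroup.closure {a, b} = ⊤)
    (h2 : ∃ a b : SU (k + 2) F q, Subgroup.closure {a, b} = ⊤) :
    (∃ a b : SU (k + 5) F q, Subgroup.closure {a, b} = fixS {0, 1}) ∧
      ∃ a b : SU (k + 5) F q, Subgroup.closure {a, b} = fixS {0, 1, 2} := by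
  obtain ⟨a, b, h1⟩ := h1
  obtain ⟨a', b', h2⟩ := h2
  rw [← fixS_empty hF] at h1 h2
  refine ⟨⟨_, _, (map_pair hF (map_pair hF h1)).trans ?_⟩, ⟨_, _, (map_pair hF (map_pair hF (map_pair hF h2))).trans ?_⟩⟩
  · congr 1
  · congr 1

/-- The group generated by the point stabiliser and the swap. -/
theorem mem_of_swap {M : Subgroup (SU (k + 5) F q)} (hfix : (fixS {0} : Subgroup (SU (k + 5) F q)) ≤ M)
    {s : SU (k + 5) F q} (hs : s ∈ M) (hs0 : s • (eI 0 : Fin (k + 5) → F) = eI 1) (g : SU (k + 5) F q) : g ∈ M := by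
  have step : ∀ v : Fin (k + 5) → F, herm q v v = 1 → herm q v (eI 0) = 0 →
      ∃ A ∈ M, A • (eI 0 : Fin (k + 5) → F) = v := by
    intro v hv hv0
    obtain ⟨A, hA, hAv⟩ := exists_fixS_one hF (n := k + 5) (S := {0})
      (by rw [Finset.card_compl, Fintype.card_fin]; simp)
      (eI_mem_supp (i := 1) (by simp)) (x' := v)
      (fun i hi => by rw [Finset.mem_singleton.1 hi, ← herm_eI_right hF 0 v]; exact hv0) (eI_norm hF 1) hv
    exact ⟨A * s, mul_mem (hfix hA) hs, by rw [mul_smul, hs0, hAv]⟩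
  set v := g • (eI 0 : Fin (k + 5) → F) with hv
  have hvv : herm q v v = 1 := by rw [hv, herm_smul_SU, eI_norm hF]
  obtain ⟨z, hz, hz0, -, hzv⟩ := exists_common hF (n := k + 5) (by omega) v (v := eI 0) (w := eI 1) (eI_norm hF 0)
    (eI_norm hF 1) (by rw [herm_eI_eI hF, if_neg (by simp)])
  obtain ⟨A, hA, hAz⟩ := step z hz hz0
  obtain ⟨B, hB, hBv⟩ := step (A⁻¹ • v) (by rw [herm_smul_SU, hvv]) (by
    rw [← herm_smul_SU A, smul_inv_smul, hAz, herm_eq_zero_comm hF]; exact hzv)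
  have : (A * B)⁻¹ * g ∈ (fixS {0} : Subgroup (SU (k + 5) F q)) := mem_fixS.2 fun i hi => by
    rw [Finset.mem_singleton.1 hi, mul_smul, ← hv, inv_smul_eq_iff, mul_smul, hBv, smul_inv_smul]
  have := mul_mem (mul_mem hA hB) (hfix this)
  rwa [mul_inv_cancel_left] at this

set_option maxHeartbeats 1600000 in
/-- **The step**: from `SU_m` to `SU_(m+1)`, `m ≥ 4`, at the cost of eleven relations. -/
theorem presOn_succ {gens : Fin 2 → SU (k + 4) F q} {r : ℕ} (h : PresOn gens r)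
    (h1 : ∃ a b : SU (k + 3) F q, Subgroup.closure {a, b} = ⊤)
    (h2 : ∃ a b : SU (k + 2) F q, Subgroup.closure {a, b} = ⊤) :
    ∃ g : Fin 4 → SU (k + 5) F q, PresOn g (r + 11) := by
  classical
  obtain ⟨L, hL, hLrel, hLtop, hLhom⟩ := h.exists_hom
  obtain ⟨⟨a2, b2, hab2⟩, ⟨a3, b3, hab3⟩⟩ := exists_gens hF h1 h2
  obtain ⟨s, -, hs0, hs1⟩ := exists_fixS_two hF (n := k + 5) (S := ∅)
    (by rw [Finset.card_compl, Fintype.card_fin]; simp) (a := eI 0) (b := eI 1) (a' := eI 1) (b' := eI 0)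
    (eI_mem_supp (by simp)) (eI_mem_supp (by simp)) (eI_mem_supp (by simp)) (eI_mem_supp (by simp))
    (eI_norm hF 0) (eI_norm hF 1) (by rw [herm_eI_eI hF, if_neg (by simp)]) (eI_norm hF 1) (eI_norm hF 0)
    (by rw [herm_eI_eI hF, if_neg (by simp)])
  obtain ⟨ω, hω, hω0, hωpos, hωgen⟩ := exists_norm_gen hF
  obtain ⟨d, hd0, hd1, hdk⟩ := exists_diag hF (n := k + 5) (i := 0) (j := 1) (by simp) hω
  obtain ⟨e, he1, he2, hek⟩ := exists_diag hF (n := k + 5) (i := 1) (j := 2)
    (by simp [Fin.ext_iff, Nat.mod_eq_of_lt]) hω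
  have he0 : e • (eI 0 : Fin (k + 5) → F) = eI 0 :=
    hek 0 (by simp) (by simp [Fin.ext_iff, Nat.mod_eq_of_lt])
  obtain ⟨γ, hγ⟩ := exists_norm_eq hF (t := (-1 : F)) (by rw [neg_pow_q hF, one_pow])
  have hγ' : γ * γ ^ q = -1 := by rw [← pow_succ']; exact hγ
  let G4 : Fin 4 → SU (k + 5) F q := ![emb (gens 0), emb (gens 1), d, s]
  let T1 : Subgroup (FreeGroup (Fin 4)) := Subgroup.closure {FreeGroup.of 0, FreeGroup.of 1}
  let T0 : Subgroup (FreeGroup (Fin 4)) := Subgroup.closure {FreeGroup.of 0, FreeGroup.of 1, FreeGroup.of 2}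
  have hT : T1 ≤ T0 := Subgroup.closure_mono (by
    intro x hx; rcases hx with rfl | rfl <;> simp)
  -- words
  have w1 : ∀ g : SU (k + 5) F q, g ∈ (fixS {0} : Subgroup (SU (k + 5) F q)) →
      ∃ w ∈ T1, FreeGroup.lift G4 w = g := by
    intro g hg
    have : (fixS {0} : Subgroup (SU (k + 5) F q)) = T1.map (FreeGroup.lift G4) := by
      rw [← range_emb hF, MonoidHom.range_eq_map, ← hLtop, MonoidHom.map_closure, MonoidHom.map_closure,
        Set.image_pair, FreeGroup.lift_apply_of, FreeGroup.lift_apply_of, ← Set.range_comp]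
      congr 1
      ext x
      simp [G4, Fin.exists_fin_two, eq_comm]
    rw [this] at hg
    exact hg
  have fixmem : ∀ {g : SU (k + 5) F q}, g • (eI 0 : Fin (k + 5) → F) = eI 0 →
      g ∈ (fixS {0} : Subgroup (SU (k + 5) F q)) :=
    fun {g} hg => mem_fixS.2 fun i hi => by rw [Finset.mem_singleton.1 hi]; exact hg
  have w0 : ∀ g : SU (k + 5) F q, (∃ c : F, g • (eI 0 : Fin (k + 5) → F) = c • eI 0) →
      ∃ w ∈ T0, FreeGroup.lift G4 w = g := by
    rintro g ⟨c, hc⟩
    obtain ⟨i, rfl⟩ := hωgen c (scalar_norm hF hc)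
    obtain ⟨w, hw, hwg⟩ := w1 (d ^ i * g) (fixmem (by
      rw [mul_smul, hc, smul_scalar, pow_smul_line hd0, smul_smul, inv_pow, mul_inv_cancel₀ (pow_ne_zero _ hω0),
        one_smul]))
    refine ⟨(FreeGroup.of 2 ^ i)⁻¹ * w, mul_mem (inv_mem (pow_mem (Subgroup.subset_closure (by simp)) i)) (hT hw),
      ?_⟩
    rw [map_mul, map_inv, map_pow, FreeGroup.lift_apply_of, hwg, show G4 2 = d from rfl, inv_mul_cancel_left]
  have line0 : ∀ {g : SU (k + 5) F q}, g • (eI 0 : Fin (k + 5) → F) = eI 0 →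
      ∃ c : F, g • (eI 0 : Fin (k + 5) → F) = c • eI 0 := fun h => ⟨1, by rw [one_smul, h]⟩
  have sfix : ∀ {g : SU (k + 5) F q}, (∃ c : F, g • (eI 1 : Fin (k + 5) → F) = c • eI 1) →
      ∃ c : F, (s⁻¹ * g * s) • (eI 0 : Fin (k + 5) → F) = c • eI 0 := fun ⟨c, hc⟩ => ⟨c, by
    rw [mul_smul, hs0, mul_smul, hc, smul_scalar, inv_smul_eq_iff.2 hs0.symm]⟩
  -- the two new relations of the torus
  obtain ⟨Wa, hWa, eWa⟩ := w1 (d * emb (gens 0) * d⁻¹) (fixmem (by
    rw [mul_smul, mul_smul, inv_smul_eq_iff.2 (show (eI 0 : Fin (k + 5) → F) = d • (ω • eI 0) by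
      rw [smul_scalar, hd0, smul_smul, mul_inv_cancel₀ hω0, one_smul]), smul_scalar, emb_fix_zero, smul_scalar,
      hd0, smul_smul, mul_inv_cancel₀ hω0, one_smul]))
  obtain ⟨Wb, hWb, eWb⟩ := w1 (d * emb (gens 1) * d⁻¹) (fixmem (by
    rw [mul_smul, mul_smul, inv_smul_eq_iff.2 (show (eI 0 : Fin (k + 5) → F) = d • (ω • eI 0) by
      rw [smul_scalar, hd0, smul_smul, mul_inv_cancel₀ hω0, one_smul]), smul_scalar, emb_fix_zero, smul_scalar,
      hd0, smul_smul, mul_inv_cancel₀ hω0, one_smul]))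
  obtain ⟨Wss, hWss, eWss⟩ := w0 (s * s) (line0 (by rw [mul_smul, hs0, hs1]))
  -- the stabiliser of two points
  have ha2 : a2 ∈ (fixS {0, 1} : Subgroup (SU (k + 5) F q)) := by rw [← hab2]; exact Subgroup.subset_closure (by simp)
  have hb2 : b2 ∈ (fixS {0, 1} : Subgroup (SU (k + 5) F q)) := by rw [← hab2]; exact Subgroup.subset_closure (by simp)
  let j : Fin 4 → SU (k + 5) F q := ![a2, b2, d, e]
  have hj0 : ∀ i, ∃ c : F, j i • (eI 0 : Fin (k + 5) → F) = c • eI 0 := fun i => by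
    fin_cases i
    · exact line0 (mem_fixS.1 ha2 0 (by simp))
    · exact line0 (mem_fixS.1 hb2 0 (by simp))
    · exact ⟨_, hd0⟩
    · exact line0 he0
  have hj1 : ∀ i, ∃ c : F, j i • (eI 1 : Fin (k + 5) → F) = c • eI 1 := fun i => by
    fin_cases i
    · exact ⟨1, by rw [one_smul]; exact mem_fixS.1 ha2 1 (by simp)⟩
    · exact ⟨1, by rw [one_smul]; exact mem_fixS.1 hb2 1 (by simp)⟩
    · exact ⟨_, hd1⟩
    · exact ⟨_, he1⟩
  choose Wj hWj eWj using fun i => w0 (j i) (hj0 i)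
  choose Wj' hWj' eWj' using fun i => w0 (s⁻¹ * j i * s) (sfix (hj1 i))
  have jgen : ∀ g : SU (k + 5) F q, (∃ c : F, g • (eI 0 : Fin (k + 5) → F) = c • eI 0) →
      (∃ c : F, g • (eI 1 : Fin (k + 5) → F) = c • eI 1) → g ∈ Subgroup.closure (Set.range j) := by
    rintro g ⟨c, hc⟩ ⟨c', hc'⟩
    obtain ⟨i, rfl⟩ := hωgen c (scalar_norm hF hc)
    have e1 : (d ^ i * g) • (eI 1 : Fin (k + 5) → F) = (c' * ω ^ i) • eI 1 := by
      rw [mul_smul, hc', smul_scalar, pow_smul_line hd1, smul_smul]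
    obtain ⟨l, hl⟩ := hωgen _ (scalar_norm hF e1)
    have : e ^ l * (d ^ i * g) ∈ Subgroup.closure {a2, b2} := by
      rw [hab2]
      refine mem_fixS.2 fun x hx => ?_
      simp only [Finset.mem_insert, Finset.mem_singleton] at hx
      rcases hx with rfl | rfl
      · rw [mul_smul, mul_smul, hc, smul_scalar, pow_smul_line hd0, smul_smul, inv_pow,
          mul_inv_cancel₀ (pow_ne_zero _ hω0), one_smul, pow_smul_fix he0]
      · rw [mul_smul, e1, smul_scalar, pow_smul_line he1, smul_smul, ← hl, inv_pow,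
          mul_inv_cancel₀ (pow_ne_zero _ hω0), one_smul]
    have hsub : Subgroup.closure {a2, b2} ≤ Subgroup.closure (Set.range j) := Subgroup.closure_mono (by
      intro x hx
      rcases hx with rfl | rfl
      · exact ⟨0, rfl⟩
      · exact ⟨1, rfl⟩)
    have hd' : d ∈ Subgroup.closure (Set.range j) := Subgroup.subset_closure ⟨2, rfl⟩
    have he' : e ∈ Subgroup.closure (Set.range j) := Subgroup.subset_closure ⟨3, rfl⟩
    simpa using mul_mem (inv_mem (pow_mem hd' i)) (mul_mem (inv_mem (pow_mem he' l)) (hsub this))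
  -- the triangle
  obtain ⟨k1, hk1, hk1p⟩ := exists_fixS_one hF (n := k + 5) (S := {0})
    (by rw [Finset.card_compl, Fintype.card_fin]; simp) (eI_mem_supp (i := 1) (by simp))
    (eI_mem_supp (i := 2) (by simp [Fin.ext_iff, Nat.mod_eq_of_lt])) (eI_norm hF 1) (eI_norm hF 2)
  set u := (s⁻¹ * k1 * s) • (eI 0 : Fin (k + 5) → F) with hu
  obtain ⟨A, hA, hAu⟩ := exists_fixS_one hF (n := k + 5) (S := {0})
    (by rw [Finset.card_compl, Fintype.card_fin]; simp) (eI_mem_supp (i := 1) (by simp)) (x' := u)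
    (fun i hi => by
      rw [Finset.mem_singleton.1 hi, ← herm_eI_right hF 0 u, hu, ← herm_smul_SU s, mul_smul, mul_smul, smul_inv_smul,
        hs0, hk1p, herm_eI_eI hF, if_neg (by simp [Fin.ext_iff, Nat.mod_eq_of_lt])])
    (eI_norm hF 1) (by rw [hu, herm_smul_SU, eI_norm hF])
  obtain ⟨Wk, hWk, eWk⟩ := w0 k1 (line0 (mem_fixS.1 hk1 0 (by simp)))
  obtain ⟨WA, hWA, eWA⟩ := w0 A (line0 (mem_fixS.1 hA 0 (by simp)))
  obtain ⟨Wk', hWk', eWk'⟩ := w0 ((A * s)⁻¹ * (s⁻¹ * k1 * s)) (line0 (by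
    rw [mul_smul, ← hu, inv_smul_eq_iff, mul_smul, hs0, hAu]))
  -- the base point of the degenerate planes
  obtain ⟨A3, hA3, hA3p⟩ := exists_fixS_one hF (n := k + 5) (S := {0})
    (by rw [Finset.card_compl, Fintype.card_fin]; simp) (eI_mem_supp (i := 1) (by simp))
    (eI_mem_supp (i := 3) (by simp [Fin.ext_iff, Nat.mod_eq_of_lt])) (eI_norm hF 1) (eI_norm hF 3)
  have hm0 : (A3 * s) • (eI 0 : Fin (k + 5) → F) = eI 3 := by rw [mul_smul, hs0, hA3p]
  have hv0 : herm q (v0 (k := k) γ) (v0 γ) = 1 := by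
    simp only [v0, herm_add_left, herm_add_right hF, herm_smul_left, herm_smul_right hF, herm_eI_eI hF]
    simp [Fin.ext_iff, Nat.mod_eq_of_lt]
    linear_combination hγ'
  obtain ⟨A4, hA4, hA4p⟩ := exists_fixS_one hF (n := k + 5) (S := {0})
    (by rw [Finset.card_compl, Fintype.card_fin]; simp) (eI_mem_supp (i := 1) (by simp))
    (x' := (A3 * s)⁻¹ • v0 γ)
    (fun i hi => by
      rw [Finset.mem_singleton.1 hi, ← herm_eI_right hF 0 ((A3 * s)⁻¹ • v0 γ), ← herm_smul_SU (A3 * s), smul_inv_smul,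
        hm0, herm_eI_right hF]
      simp [v0, eI, Fin.ext_iff, Nat.mod_eq_of_lt])
    (eI_norm hF 1) (by rw [herm_smul_SU, hv0])
  have hz0 : (A3 * s * (A4 * s)) • (eI 0 : Fin (k + 5) → F) = v0 γ := by
    rw [mul_smul, mul_smul A4, hs0, hA4p, smul_inv_smul]
  obtain ⟨W3, hW3, eW3⟩ := w0 A3 (line0 (mem_fixS.1 hA3 0 (by simp)))
  obtain ⟨W4, hW4, eW4⟩ := w0 A4 (line0 (mem_fixS.1 hA4 0 (by simp)))
  let gg : Fin 2 → SU (k + 5) F q := ![a3, b3]
  have hgg : ∀ i, gg i ∈ (fixS {0, 1, 2} : Subgroup (SU (k + 5) F q)) := fun i => by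
    rw [← hab3]; fin_cases i <;> exact Subgroup.subset_closure (by simp [gg])
  have hggv : ∀ i, gg i • v0 (k := k) γ = v0 γ := fun i => by
    rw [v0, smul_add, smul_add, smul_scalar, mem_fixS.1 (hgg i) 0 (by simp), mem_fixS.1 (hgg i) 1 (by simp),
      mem_fixS.1 (hgg i) 2 (by simp)]
  choose Wg hWg eWg using fun i => w0 (gg i) (line0 (mem_fixS.1 (hgg i) 0 (by simp)))
  choose Wg' hWg' eWg' using fun i => w0 ((A3 * s * (A4 * s))⁻¹ * gg i * (A3 * s * (A4 * s))) (line0 (by
    rw [mul_smul, hz0, mul_smul, hggv, inv_smul_eq_iff, hz0]))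
  -- the relations
  let sv : FreeGroup (Fin 4) := FreeGroup.of 3
  let dv : FreeGroup (Fin 4) := FreeGroup.of 2
  let zv : FreeGroup (Fin 4) := W3 * sv * (W4 * sv)
  let Rs : List (FreeGroup (Fin 4)) :=
    [dv * FreeGroup.of 0 * dv⁻¹ * Wa⁻¹, dv * FreeGroup.of 1 * dv⁻¹ * Wb⁻¹, dv ^ orderOf ω, sv * sv * Wss⁻¹,
      sv⁻¹ * Wk * sv * (WA * sv * Wk')⁻¹]
  let Rj : List (FreeGroup (Fin 4)) := List.ofFn fun i => sv⁻¹ * Wj i * sv * (Wj' i)⁻¹
  let Rg : List (FreeGroup (Fin 4)) := List.ofFn fun i => zv⁻¹ * Wg i * zv * (Wg' i)⁻¹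
  let c : FreeGroup (Fin 2) →* FreeGroup (Fin 4) := FreeGroup.map (Fin.castLE (by omega))
  have dpow : d ^ orderOf ω = 1 := by
    refine eq_of_smul_eq_SU fun v => ?_
    rw [one_smul, eq_sum_eI v, Finset.smul_sum]
    refine Finset.sum_congr rfl fun i _ => ?_
    rw [smul_scalar]
    congr 1
    by_cases h0 : i = 0
    · subst h0
      rw [pow_smul_line hd0, inv_pow, pow_orderOf_eq_one, inv_one, one_smul]
    by_cases h1 : i = 1
    · subst h1
      rw [pow_smul_line hd1, pow_orderOf_eq_one, one_smul]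
    exact pow_smul_fix (hdk i h0 h1) _
  refine ⟨G4, presOn_of_inj G4 (L.map c ++ Rs ++ Rj ++ Rg) ?_ ?_ ?_ ?_⟩
  · simp only [List.length_append, List.length_map, Rs, Rj, Rg, List.length_ofFn, List.length_cons,
      List.length_nil]
    omega
  · have hc : ∀ w, FreeGroup.lift G4 (c w) = emb (FreeGroup.lift gens w) := fun w =>
      DFunLike.congr_fun (FreeGroup.ext_hom ((FreeGroup.lift G4).comp c) (emb.comp (FreeGroup.lift gens))
        fun i => by fin_cases i <;> simp [c, G4]) w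
    intro w hw
    simp only [List.mem_append, List.mem_map, Rs, Rj, Rg, List.mem_cons, List.not_mem_nil, or_false,
      List.mem_ofFn] at hw
    rcases hw with ((⟨v, hv, rfl⟩ | rfl | rfl | rfl | rfl | rfl) | ⟨i, rfl⟩) | ⟨i, rfl⟩
    · rw [hc, hLrel v hv, map_one]
    all_goals
      simp only [map_mul, map_inv, map_pow, sv, dv, zv, FreeGroup.lift_apply_of, eWa, eWb, eWss, eWk, eWA, eWk',
        eW3, eW4, eWj, eWj', eWg, eWg']
    · exact mul_inv_eq_one.2 rfl
    · exact mul_inv_eq_one.2 rfl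
    · exact dpow
    · exact mul_inv_eq_one.2 rfl
    · show s⁻¹ * k1 * s * (A * s * _)⁻¹ = 1
      rw [mul_inv_cancel_left, mul_inv_cancel]
    · exact mul_inv_eq_one.2 rfl
    · exact mul_inv_eq_one.2 rfl
  · rw [eq_top_iff]
    intro g _
    refine mem_of_swap hF (M := Subgroup.closure (Set.range G4)) (fun x hx => ?_) (Subgroup.subset_closure ⟨3, rfl⟩) hs0 g
    obtain ⟨w, -, rfl⟩ := w1 x hx
    rw [← FreeGroup.range_lift_eq_closure]
    exact ⟨w, rfl⟩
  · intro H _ U φ hU hrel hφ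
    have hφU : ∀ w, φ (FreeGroup.lift U w) = FreeGroup.lift G4 w := fun w =>
      DFunLike.congr_fun (FreeGroup.ext_hom (φ.comp (FreeGroup.lift U)) (FreeGroup.lift G4)
        fun i => by simp [hφ]) w
    have rS : ∀ w ∈ Rs, FreeGroup.lift U w = 1 := fun w hw =>
      hrel w (List.mem_append_left _ (List.mem_append_left _ (List.mem_append_right _ hw)))
    have rJ : ∀ i, FreeGroup.lift U (sv⁻¹ * Wj i * sv * (Wj' i)⁻¹) = 1 := fun i =>
      hrel _ (List.mem_append_left _ (List.mem_append_right _ (List.mem_ofFn.2 ⟨i, rfl⟩)))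
    have rG : ∀ i, FreeGroup.lift U (zv⁻¹ * Wg i * zv * (Wg' i)⁻¹) = 1 := fun i =>
      hrel _ (List.mem_append_right _ (List.mem_ofFn.2 ⟨i, rfl⟩))
    obtain ⟨ψ, hψ⟩ := hLhom H (fun i => U (Fin.castLE (by omega) i)) fun w hw => by
      rw [show FreeGroup.lift (fun i => U (Fin.castLE (by omega) i)) w = FreeGroup.lift U (c w) from
        DFunLike.congr_fun (FreeGroup.ext_hom _ ((FreeGroup.lift U).comp c) fun i => by simp [c]) w]
      exact hrel _ (List.mem_append_left _ (List.mem_append_left _ (List.mem_append_left _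
        (List.mem_map_of_mem hw))))
    let A0 : Subgroup H := Subgroup.closure {U 0, U 1}
    let K : Subgroup H := Subgroup.closure {U 0, U 1, U 2}
    have hA0K : A0 ≤ K := Subgroup.closure_mono (by intro x hx; rcases hx with rfl | rfl <;> simp)
    have mT1 : ∀ {w}, w ∈ T1 → FreeGroup.lift U w ∈ A0 := fun hw => lift_mem (fun x hx => by
      rcases hx with rfl | rfl <;> rw [FreeGroup.lift_apply_of] <;> exact Subgroup.subset_closure (by simp)) hw
    have mT0 : ∀ {w}, w ∈ T0 → FreeGroup.lift U w ∈ K := fun hw => lift_mem (fun x hx => by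
      rcases hx with rfl | rfl | rfl <;> rw [FreeGroup.lift_apply_of] <;>
        exact Subgroup.subset_closure (by simp)) hw
    have hψr : ∀ x ∈ A0, ∃ B, ψ B = x := by
      intro x hx
      have : A0 ≤ ψ.range := (Subgroup.closure_le _).2 (by
        rintro y (rfl | rfl)
        · exact ⟨gens 0, hψ 0⟩
        · exact ⟨gens 1, hψ 1⟩)
      exact this hx
    have hφψ : ∀ B, φ (ψ B) = emb B := fun B => DFunLike.congr_fun
      (MonoidHom.eq_of_eqOn_dense hLtop (f := φ.comp ψ) (g := emb) (by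
        rintro _ ⟨i, rfl⟩
        fin_cases i <;> simp [hψ, hφ, G4])) B
    have r1 := rS _ (List.mem_cons_self ..)
    have r2 := rS (dv * FreeGroup.of 1 * dv⁻¹ * Wb⁻¹) (by simp [Rs])
    have r3 := rS (dv ^ orderOf ω) (by simp [Rs])
    have r4 := rS (sv * sv * Wss⁻¹) (by simp [Rs])
    have r5 := rS (sv⁻¹ * Wk * sv * (WA * sv * Wk')⁻¹) (by simp [Rs])
    simp only [map_mul, map_inv, map_pow, sv, dv, zv, FreeGroup.lift_apply_of, mul_inv_eq_one] at r1 r2 r3 r4 r5 rJ rG
    have hconj : ∀ x ∈ A0, U 2 * x * (U 2)⁻¹ ∈ A0 := by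
      intro x hx
      have : A0 ≤ A0.comap (MulAut.conj (U 2)).toMonoidHom := (Subgroup.closure_le _).2 (by
        rintro y (rfl | rfl)
        · show U 2 * U 0 * (U 2)⁻¹ ∈ A0
          rw [r1]; exact mT1 hWa
        · show U 2 * U 1 * (U 2)⁻¹ ∈ A0
          rw [r2]; exact mT1 hWb)
      exact this hx
    have hpow : ∀ i : ℕ, ∀ x ∈ A0, U 2 ^ i * x * (U 2 ^ i)⁻¹ ∈ A0 := by
      intro i
      induction i with
      | zero => intro x hx; simpa using hx
      | succ i ih =>
        intro x hx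
        rw [show U 2 ^ (i + 1) * x * (U 2 ^ (i + 1))⁻¹ = U 2 * (U 2 ^ i * x * (U 2 ^ i)⁻¹) * (U 2)⁻¹ by
          rw [pow_succ']; group]
        exact hconj _ (ih x hx)
    have hform : ∀ x ∈ K, ∃ (B : SU (k + 4) F q) (i : ℕ), x = ψ B * U 2 ^ i := by
      intro x hx
      suffices ∃ a ∈ A0, ∃ i : ℕ, x = a * U 2 ^ i by
        obtain ⟨a, ha, i, rfl⟩ := this
        obtain ⟨B, rfl⟩ := hψr a ha
        exact ⟨B, i, rfl⟩
      have step : ∀ (a : H) (i : ℕ) (y : H), a ∈ A0 → y ∈ A0 →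
          ∃ a' ∈ A0, ∃ i' : ℕ, a * U 2 ^ i * y = a' * U 2 ^ i' := fun a i y ha hy =>
        ⟨a * (U 2 ^ i * y * (U 2 ^ i)⁻¹), mul_mem ha (hpow i y hy), i, by group⟩
      have hinv : (U 2)⁻¹ = U 2 ^ (orderOf ω - 1) := inv_eq_of_mul_eq_one_right (by
        rw [← pow_succ', Nat.sub_add_cancel hωpos, r3])
      induction hx using Subgroup.closure_induction_right with
      | one => exact ⟨1, one_mem _, 0, by simp⟩
      | mul_right x y _ hy ih =>
        obtain ⟨a, ha, i, rfl⟩ := ih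
        rcases hy with rfl | rfl | rfl
        · exact step a i _ ha (Subgroup.subset_closure (by simp))
        · exact step a i _ ha (Subgroup.subset_closure (by simp))
        · exact ⟨a, ha, i + 1, by rw [mul_assoc, pow_succ]⟩
      | mul_inv_cancel x y _ hy ih =>
        obtain ⟨a, ha, i, rfl⟩ := ih
        rcases hy with rfl | rfl | rfl
        · exact step a i _ ha (inv_mem (Subgroup.subset_closure (by simp)))
        · exact step a i _ ha (inv_mem (Subgroup.subset_closure (by simp)))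
        · exact ⟨a, ha, i + (orderOf ω - 1), by rw [hinv, mul_assoc, pow_add]⟩
    have inj : ∀ x ∈ K, φ x = 1 → x = 1 := by
      intro x hx hx1
      obtain ⟨B, i, rfl⟩ := hform x hx
      rw [map_mul, map_pow, hφψ, hφ 2] at hx1
      have h0 := congrArg (fun g : SU (k + 5) F q => g • (eI 0 : Fin (k + 5) → F)) hx1
      simp only [mul_smul, one_smul] at h0
      rw [show G4 2 = d from rfl, pow_smul_line hd0, smul_scalar, emb_fix_zero] at h0
      have hi : ω ^ i = 1 := by
        have := congrFun h0 0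
        simpa [eI] using this
      have hU2 : U 2 ^ i = 1 := orderOf_dvd_iff_pow_eq_one.1
        ((orderOf_dvd_of_pow_eq_one r3).trans (orderOf_dvd_of_pow_eq_one hi))
      rw [show G4 2 = d from rfl, show d ^ i = 1 from orderOf_dvd_iff_pow_eq_one.1
        ((orderOf_dvd_of_pow_eq_one dpow).trans (orderOf_dvd_of_pow_eq_one hi)), mul_one] at hx1
      rw [hU2, mul_one, emb_injective (hx1.trans (map_one emb).symm), map_one]
    have hmem : ∀ x ∈ K, ∃ c : F, φ x • (eI 0 : Fin (k + 5) → F) = c • eI 0 := by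
      intro x hx
      have : K ≤ (lineStab hF (0 : Fin (k + 5))).comap φ := (Subgroup.closure_le _).2 (by
        rintro y (rfl | rfl | rfl) <;> show ∃ c : F, φ _ • (eI 0 : Fin (k + 5) → F) = c • eI 0 <;> rw [hφ]
        · exact line0 (emb_fix_zero _)
        · exact line0 (emb_fix_zero _)
        · exact ⟨_, hd0⟩)
      exact this hx
    have hlift : ∀ w, w ∈ T0 → ∀ g, FreeGroup.lift G4 w = g → ∃ x ∈ K, φ x = g := fun w hw g e =>
      ⟨_, mT0 hw, (hφU w).trans e⟩
    have C : Cov φ K (U 3) γ := {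
      inj := inj
      mem := hmem
      lift := fun g hg => by
        obtain ⟨w, hw, e⟩ := w0 g hg
        exact hlift w hw g e
      s0 := by rw [hφ]; exact hs0
      ss := by rw [r4]; exact mT0 hWss
      stab := fun x hx hx1 => conj_mem_of_closure inj (S := Set.range j) (by
          rintro _ ⟨i, rfl⟩
          exact ⟨_, mT0 (hWj i), (hφU _).trans (eWj i), by rw [rJ i]; exact mT0 (hWj' i)⟩)
        hx (jgen _ (hmem x hx) hx1)
      tri := ⟨_, mT0 hWk, by rw [hφU, eWk, hk1p], _, mT0 hWA, _, mT0 hWk', r5⟩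
      norm := hγ
      base := by
        refine ⟨_, mT0 hW3, _, mT0 hW4, ?_, ?_, fun g hg x hx hxg => ?_⟩
        · rw [map_mul, hφU, eW3, hφ]; exact hm0
        · rw [map_mul, map_mul, map_mul, hφU, hφU, eW3, eW4, hφ]; exact hz0
        · refine conj_mem_of_closure inj (S := Set.range gg) (by
            rintro _ ⟨i, rfl⟩
            exact ⟨_, mT0 (hWg i), (hφU _).trans (eWg i), by rw [rG i]; exact mT0 (hWg' i)⟩) hx ?_
          rw [hxg, show Set.range gg = {a3, b3} by
            simp [gg, Matrix.range_cons, Matrix.range_empty, Set.pair_comm], hab3]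
          exact hg
      gen := by
        rw [eq_top_iff, ← hU, Subgroup.closure_le]
        rintro _ ⟨i, rfl⟩
        fin_cases i
        · exact Subgroup.subset_closure (Or.inl (Subgroup.subset_closure (by simp)))
        · exact Subgroup.subset_closure (Or.inl (Subgroup.subset_closure (by simp)))
        · exact Subgroup.subset_closure (Or.inl (Subgroup.subset_closure (by simp)))
        · exact Subgroup.subset_closure (Or.inr rfl) }
    exact fun x hx => cov_injective C hF x hx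

end Cfsg.Agent.KSG55.SUStep
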