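import Cfsg.Agent.Lib.Unitary.Count

/-!
Orthogonal systems and transitivity for the Hermitian form, as used by the step from `SU_m` to `SU_(m+1)`.
-/

set_option autoImplicit false
set_option linter.unusedSectionVars false

namespace Cfsg.Agent.KSG55.SUStep

open Cfsg.Agent.Unitary Matrix

variable {F : Type*} [Field F] [Fintype F] {n q : ℕ} (hF : Fintype.card F = q ^ 2)

/-- An orthogonal system without isotropic vectors. -/
structure Orth (q : ℕ) {k : ℕ} (a : Fin k → Fin n → F) : Prop where
  ne : ∀ i, herm q (a i) (a i) ≠ 0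
  perp : ∀ i j, i ≠ j → herm q (a i) (a j) = 0

/-- The projection away from a system. -/
noncomputable def proj (q : ℕ) {k : ℕ} (a : Fin k → Fin n → F) (x : Fin n → F) : Fin n → F :=
  x - ∑ i, (herm q x (a i) / herm q (a i) (a i)) • a i

include hF

theorem proj_perp {k : ℕ} {a : Fin k → Fin n → F} (ha : Orth q a) (x : Fin n → F) (j : Fin k) :
    herm q (proj q a x) (a j) = 0 := by
  rw [proj, herm_sub_left, herm_sum_left, Finset.sum_eq_single j]
  · rw [herm_smul_left, div_mul_cancel₀ _ (ha.ne j), sub_self]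
  · intro i _ hi
    rw [herm_smul_left, ha.perp i j hi, mul_zero]
  · exact fun h => absurd (Finset.mem_univ j) h

theorem herm_proj {k : ℕ} {a : Fin k → Fin n → F} (x y : Fin n → F) (hy : ∀ i, herm q (a i) y = 0) :
    herm q (proj q a x) y = herm q x y := by
  rw [proj, herm_sub_left, herm_sum_left, Finset.sum_eq_zero fun i _ => by rw [herm_smul_left, hy i, mul_zero],
    sub_zero]

theorem orth_nil : Orth q (![] : Fin 0 → Fin n → F) :=
  ⟨fun i => i.elim0, fun i => i.elim0⟩

theorem Orth.cons {k : ℕ} {a : Fin k → Fin n → F} (ha : Orth q a) {x : Fin n → F} (hx : herm q x x ≠ 0)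
    (hxa : ∀ i, herm q x (a i) = 0) : Orth q (vecCons x a) := by
  refine ⟨fun i => ?_, fun i j h => ?_⟩
  · induction i using Fin.cases with
    | zero => simpa using hx
    | succ i => simpa using ha.ne i
  · induction i using Fin.cases with
    | zero => induction j using Fin.cases with
      | zero => exact absurd rfl h
      | succ j => simpa using hxa j
    | succ i => induction j using Fin.cases with
      | zero => simpa using (herm_eq_zero_comm hF).1 (hxa i)
      | succ j => simpa using ha.perp i j fun e => h (congrArg Fin.succ e)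

theorem orth_one {x : Fin n → F} (hx : herm q x x ≠ 0) : Orth q ![x] :=
  (orth_nil hF).cons hF hx fun i => i.elim0

theorem orth_two {x y : Fin n → F} (hx : herm q x x ≠ 0) (hy : herm q y y ≠ 0) (h : herm q x y = 0) :
    Orth q ![x, y] :=
  (orth_one hF hy).cons hF hx fun i => by rw [Subsingleton.elim i 0]; exact h

theorem orth_three {x y z : Fin n → F} (hx : herm q x x ≠ 0) (hy : herm q y y ≠ 0) (hz : herm q z z ≠ 0)
    (hxy : herm q x y = 0) (hxz : herm q x z = 0) (hyz : herm q y z = 0) : Orth q ![x, y, z] :=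
  (orth_two hF hy hz hyz).cons hF hx fun i => by fin_cases i <;> assumption

theorem orth_four {x y z w : Fin n → F} (hx : herm q x x ≠ 0) (hy : herm q y y ≠ 0) (hz : herm q z z ≠ 0)
    (hw : herm q w w ≠ 0) (hxy : herm q x y = 0) (hxz : herm q x z = 0) (hxw : herm q x w = 0)
    (hyz : herm q y z = 0) (hyw : herm q y w = 0) (hzw : herm q z w = 0) : Orth q ![x, y, z, w] :=
  (orth_three hF hy hz hw hyz hyw hzw).cons hF hx fun i => by fin_cases i <;> assumption

theorem herm_add_smul (z w : Fin n → F) (t : F) :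
    herm q (z + t • w) (z + t • w) =
      herm q z z + (t * herm q w z + (t * herm q w z) ^ q) + t * t ^ q * herm q w w := by
  rw [herm_add_left, herm_add_right hF, herm_add_right hF, herm_smul_left, herm_smul_left, herm_smul_right hF,
    herm_smul_right hF, mul_pow, herm_swap hF w z]
  ring

/-- Fewer vectors than dimensions leave room for a vector of norm one. -/
theorem exists_norm_one_perp {k : ℕ} {a : Fin k → Fin n → F} (ha : Orth q a) (hk : k < n) :
    ∃ z, herm q z z = 1 ∧ ∀ i, herm q z (a i) = 0 := by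
  by_contra hno
  push Not at hno
  have hiso : ∀ z : Fin n → F, (∀ i, herm q z (a i) = 0) → herm q z z = 0 := by
    intro z hz
    by_contra h0
    obtain ⟨c, hc⟩ := exists_norm_eq hF (t := herm q z z) (herm_self_fixed hF z)
    have hc0 : c ≠ 0 := fun e => h0 (by rw [← hc, e, zero_pow (by omega)])
    obtain ⟨i, hi⟩ := hno (c⁻¹ • z) (by
      rw [herm_smul_left, herm_smul_right hF, ← hc, inv_pow, pow_succ]
      field_simp)
    exact hi (by rw [herm_smul_left, hz, mul_zero])
  obtain ⟨t0, ht0⟩ := exists_trace_eq hF (t := (1 : F)) (one_pow q)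
  have hzero : ∀ z w : Fin n → F, (∀ i, herm q z (a i) = 0) → (∀ i, herm q w (a i) = 0) → herm q w z = 0 := by
    intro z w hz hw
    by_contra h0
    have h := hiso (z + (t0 / herm q w z) • w) fun i => by
      rw [herm_add_left, herm_smul_left, hz, hw, mul_zero, add_zero]
    rw [herm_add_smul hF, hiso z hz, hiso w hw, div_mul_cancel₀ _ h0, ht0] at h
    simp at h
  have hall : ∀ x : Fin n → F, x = ∑ i, (herm q x (a i) / herm q (a i) (a i)) • a i := fun x => by
    refine sub_eq_zero.1 (show proj q a x = 0 from eq_zero_of_herm hF fun y => ?_)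
    have e : y = proj q a y + ∑ i, (herm q y (a i) / herm q (a i) (a i)) • a i := (sub_add_cancel _ _).symm
    rw [e, herm_add_right hF, hzero _ _ (proj_perp hF ha y) (proj_perp hF ha x), zero_add, herm_swap hF,
      herm_sum_left, Finset.sum_eq_zero fun i _ => by
        rw [herm_smul_left, herm_swap hF (proj q a x), proj_perp hF ha, zero_pow_q hF, mul_zero], zero_pow_q hF]
  have hsurj : Function.Surjective (fun c : Fin k → F => ∑ i, c i • a i) := fun x => ⟨_, (hall x).symm⟩
  have hcard := Fintype.card_le_of_surjective _ hsurj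
  rw [Fintype.card_fun, Fintype.card_fun, Fintype.card_fin, Fintype.card_fin] at hcard
  exact absurd ((Nat.pow_le_pow_iff_right Fintype.one_lt_card).1 hcard) (by omega)

/-- An isotropic vector in the complement has a partner there. -/
theorem exists_partner_perp {k : ℕ} {a : Fin k → Fin n → F} (ha : Orth q a) {r : Fin n → F}
    (hr : herm q r r = 0) (hr0 : r ≠ 0) (hperp : ∀ i, herm q r (a i) = 0) :
    ∃ r', herm q r' r' = 0 ∧ herm q r r' = 1 ∧ herm q r' r = 1 ∧ ∀ i, herm q r' (a i) = 0 := by
  obtain ⟨j, hj⟩ : ∃ j, r j ≠ 0 := by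
    by_contra h; push Not at h; exact hr0 (funext h)
  set y := proj q a ((r j ^ q)⁻¹ • eI j) with hy
  have hyr : herm q y r = 1 := by
    rw [hy, herm_proj hF _ _ fun i => (herm_eq_zero_comm hF).1 (hperp i), herm_smul_left, herm_eI_left,
      inv_mul_cancel₀ (fun e => hj ((pow_q_eq_zero_iff hF).1 e))]
  have hry : herm q r y = 1 := by rw [herm_swap hF y r, hyr, one_pow]
  obtain ⟨t, ht⟩ := exists_trace_eq hF (t := -herm q y y) (by rw [neg_pow_q hF, herm_self_fixed hF])
  refine ⟨y + t • r, ?_, ?_, ?_, fun i => ?_⟩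
  · rw [herm_add_smul hF, hr, hry, mul_one, ht, mul_zero, add_zero, add_neg_cancel]
  · rw [herm_add_right hF, herm_smul_right hF, hr, mul_zero, add_zero, hry]
  · rw [herm_add_left, herm_smul_left, hr, mul_zero, add_zero, hyr]
  · rw [herm_add_left, herm_smul_left, hperp, hy, proj_perp hF ha, mul_zero, add_zero]

/-- An isotropic vector is a sum of orthogonal vectors of norm one and minus one. -/
theorem exists_split {k : ℕ} {a : Fin k → Fin n → F} (ha : Orth q a) {r : Fin n → F}
    (hr : herm q r r = 0) (hr0 : r ≠ 0) (hperp : ∀ i, herm q r (a i) = 0) :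
    ∃ x y, r = x + y ∧ herm q x x = 1 ∧ herm q y y = -1 ∧ herm q x y = 0 ∧
      (∀ i, herm q x (a i) = 0) ∧ ∀ i, herm q y (a i) = 0 := by
  obtain ⟨r', hr', hrr', hr'r, hp'⟩ := exists_partner_perp hF ha hr hr0 hperp
  obtain ⟨t, ht⟩ := exists_trace_eq hF (t := (1 : F)) (one_pow q)
  set x := r' + t • r with hx
  have hxx : herm q x x = 1 := by
    rw [hx, herm_add_smul hF, hr', hr, hrr', mul_one, ht, zero_add, mul_zero, add_zero]
  have hxr : herm q x r = 1 := by rw [hx, herm_add_left, herm_smul_left, hr, mul_zero, add_zero, hr'r]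
  have hrx : herm q r x = 1 := by rw [herm_swap hF x r, hxr, one_pow]
  have hxp : ∀ i, herm q x (a i) = 0 := fun i => by
    rw [hx, herm_add_left, herm_smul_left, hperp, hp', mul_zero, add_zero]
  refine ⟨x, r - x, by abel, hxx, ?_, ?_, hxp, fun i => by rw [herm_sub_left, hperp, hxp, sub_self]⟩
  · rw [herm_sub_left, herm_sub_right hF, herm_sub_right hF, hr, hrx, hxr, hxx]; ring
  · rw [herm_sub_right hF, hxr, hxx, sub_self]

/-! ### Transitivity -/

/-- A member of the unitary group fixing a set of basis vectors and one norm one vector, of any determinant. -/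
theorem exists_det_fix {S : Finset (Fin n)} (h2 : 2 ≤ Sᶜ.card) {x : Fin n → F} (hx : x ∈ supp S)
    (hxx : herm q x x = 1) {μ : F} (hμ : μ ^ (q + 1) = 1) :
    ∃ g : GU n F q, g ∈ fixGU S ∧ g • x = x ∧ (detGU g : F) = μ := by
  classical
  obtain ⟨j, hj⟩ := Finset.card_pos.1 (show 0 < Sᶜ.card by omega)
  obtain ⟨i, hi, hij⟩ := Finset.exists_mem_ne (s := Sᶜ) (by omega) j
  rw [Finset.mem_compl] at hi hj
  have hM : ∀ u w : Fin n → F, herm q (Matrix.diagonal (Function.update 1 i μ) *ᵥ u)
      (Matrix.diagonal (Function.update 1 i μ) *ᵥ w) = herm q u w := by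
    intro u w
    rw [herm, herm, hermForm, hermForm]
    refine Finset.sum_congr rfl fun k _ => ?_
    rw [Matrix.mulVec_diagonal, Matrix.mulVec_diagonal]
    by_cases hk : k = i
    · subst hk
      rw [Function.update_self, mul_pow]
      calc μ * u k * (μ ^ q * w k ^ q) = μ ^ (q + 1) * (u k * w k ^ q) := by rw [pow_succ]; ring
        _ = _ := by rw [hμ, one_mul]
    · simp [hk]
  set D := mkGU hF _ hM
  have hDfix : ∀ k, k ≠ i → D • (eI k : Fin n → F) = eI k := fun k hk => by
    rw [mkGU_smul]
    funext l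
    rw [Matrix.mulVec_diagonal]
    by_cases hl : l = i
    · subst hl; simp [eI, Ne.symm hk]
    · simp [hl]
  obtain ⟨h, hh, hhx⟩ := exists_fixGU_smul_eq hF (x := eI j) (x' := x) (eI_mem_supp hj) hx
    (by rw [herm_eI_eI hF, if_pos rfl, hxx]) (by rw [herm_eI_eI hF, if_pos rfl]; exact one_ne_zero)
  refine ⟨h * D * h⁻¹, ?_, ?_, ?_⟩
  · refine mul_mem (mul_mem hh (mem_fixGU.2 fun k hk => hDfix k fun e => hi (e ▸ hk))) (inv_mem hh)
  · rw [← hhx, ← mul_smul, inv_mul_cancel_right, mul_smul, hDfix j hij.symm]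
  · rw [map_mul, map_mul, map_inv, mul_comm (detGU h), mul_inv_cancel_right]
    show (Matrix.diagonal (Function.update (1 : Fin n → F) i μ)).det = μ
    rw [Matrix.det_diagonal, Finset.prod_update_of_mem (Finset.mem_univ i)]
    simp

/-- Vectors of norm one outside `S` are conjugate under the special group fixing `S`. -/
theorem exists_fixS_one {S : Finset (Fin n)} (h2 : 2 ≤ Sᶜ.card) {x x' : Fin n → F} (hx : x ∈ supp S)
    (hx' : x' ∈ supp S) (hxx : herm q x x = 1) (hxx' : herm q x' x' = 1) :
    ∃ g ∈ (fixS S : Subgroup (SU n F q)), g • x = x' := by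
  obtain ⟨g, hg, hgx⟩ := exists_fixGU_smul_eq hF hx hx' (by rw [hxx, hxx']) (by rw [hxx]; exact one_ne_zero)
  obtain ⟨c, hc, hcx, hdet⟩ := exists_det_fix hF h2 hx' hxx' (μ := (detGU g : F)⁻¹)
    (by rw [inv_pow, det_norm hF, inv_one])
  obtain ⟨k, hk⟩ : c * g ∈ (toGU : SU n F q →* GU n F q).range := by
    rw [range_toGU]
    refine Units.ext ?_
    rw [map_mul, Units.val_mul, hdet, Units.val_one, inv_mul_cancel₀ (Units.ne_zero _)]
  refine ⟨k, mem_fixS.2 fun i hi => ?_, ?_⟩
  · rw [← toGU_smul, hk]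
    exact mem_fixGU.1 (mul_mem hc hg) i hi
  · rw [← toGU_smul, hk, mul_smul, hgx, hcx]

/-- Orthonormal pairs outside `S` are conjugate under the special group fixing `S`. -/
theorem exists_fixS_two {S : Finset (Fin n)} (h3 : 3 ≤ Sᶜ.card) {a b a' b' : Fin n → F} (ha : a ∈ supp S)
    (hb : b ∈ supp S) (ha' : a' ∈ supp S) (hb' : b' ∈ supp S) (haa : herm q a a = 1) (hbb : herm q b b = 1)
    (hab : herm q a b = 0) (haa' : herm q a' a' = 1) (hbb' : herm q b' b' = 1) (hab' : herm q a' b' = 0) :
    ∃ g ∈ (fixS S : Subgroup (SU n F q)), g • a = a' ∧ g • b = b' := by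
  classical
  obtain ⟨g1, hg1, e1⟩ := exists_fixS_one hF (by omega) ha ha' haa haa'
  obtain ⟨j, hj⟩ := Finset.card_pos.1 (show 0 < Sᶜ.card by omega)
  rw [Finset.mem_compl] at hj
  obtain ⟨h, hh, he⟩ := exists_fixS_one hF (by omega) (eI_mem_supp hj) ha'
    (by rw [herm_eI_eI hF, if_pos rfl]) haa'
  have hback : h⁻¹ • a' = eI j := by rw [← he, inv_smul_smul]
  have hin : ∀ w : Fin n → F, w ∈ supp S → herm q a' w = 0 → h⁻¹ • w ∈ supp (insert j S) := fun w hw h0 => by
    intro k hk
    rcases Finset.mem_insert.1 hk with rfl | hk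
    · rw [← herm_eI_right hF k (h⁻¹ • w), ← hback, herm_smul_SU]
      exact (herm_eq_zero_comm hF).1 h0
    · exact smul_mem_supp_SU hF (inv_mem hh) hw k hk
  have hb1 : g1 • b ∈ supp S := smul_mem_supp_SU hF hg1 hb
  have h0 : herm q a' (g1 • b) = 0 := by rw [← e1, herm_smul_SU, hab]
  obtain ⟨g2, hg2, e2⟩ := exists_fixS_one hF (S := insert j S)
    (by rw [Finset.compl_insert, Finset.card_erase_of_mem (Finset.mem_compl.2 hj)]; omega)
    (hin _ hb1 h0) (hin _ hb' hab') (by rw [herm_smul_SU, herm_smul_SU, hbb]) (by rw [herm_smul_SU, hbb'])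
  have hg2' : g2 ∈ fixS S := mem_fixS.2 fun k hk => mem_fixS.1 hg2 k (Finset.mem_insert_of_mem hk)
  refine ⟨h * g2 * h⁻¹ * g1, mul_mem (mul_mem (mul_mem hh hg2') (inv_mem hh)) hg1, ?_, ?_⟩
  · rw [mul_smul, e1, mul_smul, mul_smul, hback, mem_fixS.1 hg2 j (Finset.mem_insert_self j S), he]
  · rw [mul_smul, mul_smul, mul_smul, e2, smul_inv_smul]

/-- A norm one vector orthogonal to a vector and to an orthonormal pair. -/
theorem exists_common (hn : 5 ≤ n) (p : Fin n → F) {v w : Fin n → F} (hv : herm q v v = 1)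
    (hw : herm q w w = 1) (hvw : herm q v w = 0) :
    ∃ z, herm q z z = 1 ∧ herm q z v = 0 ∧ herm q z w = 0 ∧ herm q z p = 0 := by
  have ha : Orth q ![v, w] := orth_two hF (by simp [hv]) (by simp [hw]) hvw
  set r := proj q ![v, w] p with hr
  have hperp : ∀ i, herm q r (![v, w] i) = 0 := proj_perp hF ha p
  have hback : ∀ z : Fin n → F, herm q z v = 0 → herm q z w = 0 → herm q z p = herm q z r := fun z h1 h2 => by
    rw [hr, proj, herm_sub_right hF, herm_swap hF (∑ i, _) z, herm_sum_left, Finset.sum_eq_zero fun i _ => by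
      rw [herm_smul_left, show herm q (![v, w] i) z = 0 by
        fin_cases i
        · exact (herm_eq_zero_comm hF).1 h1
        · exact (herm_eq_zero_comm hF).1 h2, mul_zero], zero_pow_q hF, sub_zero]
  have key : ∀ {k : ℕ} (b : Fin k → Fin n → F), Orth q b → k < n →
      (∀ z, (∀ i, herm q z (b i) = 0) → herm q z v = 0 ∧ herm q z w = 0 ∧ herm q z r = 0) →
      ∃ z, herm q z z = 1 ∧ herm q z v = 0 ∧ herm q z w = 0 ∧ herm q z p = 0 := by
    intro k b hb hk hsp
    obtain ⟨z, hz, hzb⟩ := exists_norm_one_perp hF hb hk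
    obtain ⟨h1, h2, h3⟩ := hsp z hzb
    exact ⟨z, hz, h1, h2, by rw [hback z h1 h2, h3]⟩
  by_cases hr0 : r = 0
  · exact key _ ha (by omega) fun z hz => ⟨hz 0, hz 1, by rw [hr0, herm_zero_right hF]⟩
  have hrv : herm q r v = 0 := hperp 0
  have hrw : herm q r w = 0 := hperp 1
  have cv : ∀ {x y : Fin n → F}, herm q x y = 0 → herm q y x = 0 := fun h => (herm_eq_zero_comm hF).1 h
  by_cases hrr : herm q r r = 0
  · obtain ⟨x, y, hxy, hxx, hyy, hxy0, hxp, hyp⟩ := exists_split hF ha hrr hr0 hperp
    have h1 : herm q x v = 0 := hxp 0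
    have h2 : herm q x w = 0 := hxp 1
    have h3 : herm q y v = 0 := hyp 0
    have h4 : herm q y w = 0 := hyp 1
    refine key ![v, w, x, y] (orth_four hF (by simp [hv]) (by simp [hw]) (by simp [hxx]) (by simp [hyy])
      hvw (cv h1) (cv h3) (cv h2) (cv h4) hxy0) (by omega) fun z hz => ⟨hz 0, hz 1, ?_⟩
    rw [hxy, herm_add_right hF, show herm q z x = 0 from hz 2, show herm q z y = 0 from hz 3, add_zero]
  · exact key ![v, w, r] (orth_three hF (by simp [hv]) (by simp [hw]) hrr hvw (cv hrv) (cv hrw)) (by omega)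
      fun z hz => ⟨hz 0, hz 1, hz 2⟩

/-- Two common neighbours of a point and a non-degenerate partner are joined by a short path of such. -/
theorem exists_chain (hn : 5 ≤ n) {p v m m' : Fin n → F} (hp : herm q p p = 1) (hv : herm q v v = 1)
    (hc0 : herm q v p ≠ 0) (hc1 : herm q v p ^ (q + 1) ≠ 1) (hm : herm q m m = 1) (hm' : herm q m' m' = 1)
    (hmp : herm q m p = 0) (hmv : herm q m v = 0) (hmp' : herm q m' p = 0) (hmv' : herm q m' v = 0)
    (hne : ∀ c : F, m' ≠ c • m) :
    ∃ u z, (herm q u u = 1 ∧ herm q u p = 0 ∧ herm q u v = 0 ∧ herm q u m = 0) ∧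
      (herm q z z = 1 ∧ herm q z p = 0 ∧ herm q z v = 0 ∧ herm q z m' = 0) ∧
      ((∃ c : F, z = c • u) ∨ herm q u z = 0) := by
  set c := herm q v p with hcdef
  have cv : ∀ {x y : Fin n → F}, herm q x y = 0 → herm q y x = 0 := fun h => (herm_eq_zero_comm hF).1 h
  set b := v - c • p with hb
  have hbp : herm q b p = 0 := by rw [hb, herm_sub_left, herm_smul_left, hp, mul_one, ← hcdef, sub_self]
  have hbb : herm q b b = 1 - c ^ (q + 1) := by
    rw [hb, herm_sub_left, herm_sub_right hF, herm_sub_right hF, herm_smul_left, herm_smul_left, herm_smul_right hF,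
      herm_smul_right hF, hv, hp, ← hcdef, herm_swap hF v p, ← hcdef, pow_succ]
    ring
  have hbb0 : herm q b b ≠ 0 := by rw [hbb, sub_ne_zero]; exact Ne.symm hc1
  have hperp : ∀ z : Fin n → F, herm q z p = 0 → herm q z v = 0 → herm q z b = 0 := fun z h1 h2 => by
    rw [hb, herm_sub_right hF, herm_smul_right hF, h1, h2, mul_zero, sub_zero]
  have hperp' : ∀ z : Fin n → F, herm q z p = 0 → herm q z b = 0 → herm q z v = 0 := fun z h1 h2 => by
    rw [show v = b + c • p by rw [hb, sub_add_cancel], herm_add_right hF, herm_smul_right hF, h1, h2, mul_zero,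
      add_zero]
  -- the case of a non-degenerate pair
  have base : ∀ x y : Fin n → F, herm q x x = 1 → herm q y y = 1 → herm q x p = 0 → herm q x v = 0 →
      herm q y p = 0 → herm q y v = 0 → herm q y x ^ (q + 1) ≠ 1 →
      ∃ z, herm q z z = 1 ∧ herm q z p = 0 ∧ herm q z v = 0 ∧ herm q z x = 0 ∧ herm q z y = 0 := by
    intro x y hx hy hxp hxv hyp hyv hd
    set e := y - herm q y x • x with he
    have hex : herm q e x = 0 := by rw [he, herm_sub_left, herm_smul_left, hx, mul_one, sub_self]
    have hep : herm q e p = 0 := by rw [he, herm_sub_left, herm_smul_left, hyp, hxp, mul_zero, sub_zero]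
    have hev : herm q e v = 0 := by rw [he, herm_sub_left, herm_smul_left, hyv, hxv, mul_zero, sub_zero]
    have hee : herm q e e ≠ 0 := by
      have : herm q e e = 1 - herm q y x ^ (q + 1) := by
        rw [he, herm_sub_left, herm_sub_right hF, herm_sub_right hF, herm_smul_left, herm_smul_left,
          herm_smul_right hF, herm_smul_right hF, hx, hy, herm_swap hF y x, pow_succ]
        ring
      rw [this, sub_ne_zero]; exact Ne.symm hd
    have hxb := hperp x hxp hxv
    have heb := hperp e hep hev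
    obtain ⟨z, hz, hzp⟩ := exists_norm_one_perp hF (a := ![p, b, x, e])
      (orth_four hF (by simp [hp]) hbb0 (by simp [hx]) hee (cv hbp) (cv hxp) (cv hep) (cv hxb) (cv heb) (cv hex))
      (by omega)
    have z0 : herm q z p = 0 := hzp 0
    refine ⟨z, hz, z0, hperp' z z0 (hzp 1), hzp 2, ?_⟩
    rw [show y = e + herm q y x • x by rw [he, sub_add_cancel], herm_add_right hF, herm_smul_right hF,
      show herm q z e = 0 from hzp 3, show herm q z x = 0 from hzp 2, mul_zero, add_zero]
  by_cases hd : herm q m' m ^ (q + 1) = 1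
  · -- the pair spans a degenerate plane: go one step further
    set w := m' - herm q m' m • m with hw
    have hwm : herm q w m = 0 := by rw [hw, herm_sub_left, herm_smul_left, hm, mul_one, sub_self]
    have hwp : herm q w p = 0 := by rw [hw, herm_sub_left, herm_smul_left, hmp', hmp, mul_zero, sub_zero]
    have hwv : herm q w v = 0 := by rw [hw, herm_sub_left, herm_smul_left, hmv', hmv, mul_zero, sub_zero]
    have hww : herm q w w = 0 := by
      rw [hw, herm_sub_left, herm_sub_right hF, herm_sub_right hF, herm_smul_left, herm_smul_left,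
        herm_smul_right hF, herm_smul_right hF, hm, hm', herm_swap hF m' m]
      rw [pow_succ] at hd
      linear_combination -hd
    have hw0 : w ≠ 0 := fun e => hne _ (sub_eq_zero.1 e)
    have ha : Orth q ![p, b, m] :=
      orth_three hF (by simp [hp]) hbb0 (by simp [hm]) (cv hbp) (cv hmp) (cv (hperp m hmp hmv))
    obtain ⟨w', hw', hww', hw'w, hw'p⟩ := exists_partner_perp hF ha hww hw0 fun i => by
      fin_cases i
      · exact hwp
      · exact hperp w hwp hwv
      · exact hwm
    obtain ⟨t, ht⟩ := exists_trace_eq hF (t := (1 : F)) (one_pow q)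
    set u := c • w' + (t / c ^ q) • w with hu
    have hcq : c ^ q ≠ 0 := fun e => hc0 ((pow_q_eq_zero_iff hF).1 e)
    have huu : herm q u u = 1 := by
      rw [hu, herm_add_smul hF, herm_smul_left, herm_smul_right hF, hw', mul_zero, mul_zero, hww,
        herm_smul_right hF, hww', mul_one, mul_zero, add_zero, zero_add, div_mul_cancel₀ _ hcq]
      exact ht
    have hup : herm q u p = 0 := by
      rw [hu, herm_add_left, herm_smul_left, herm_smul_left, hwp, show herm q w' p = 0 from hw'p 0, mul_zero,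
        mul_zero, add_zero]
    have huv : herm q u v = 0 := hperp' u hup (by
      rw [hu, herm_add_left, herm_smul_left, herm_smul_left, hperp w hwp hwv, show herm q w' b = 0 from hw'p 1,
        mul_zero, mul_zero, add_zero])
    have hum : herm q u m = 0 := by
      rw [hu, herm_add_left, herm_smul_left, herm_smul_left, hwm, show herm q w' m = 0 from hw'p 2, mul_zero,
        mul_zero, add_zero]
    have hm'u : herm q u m' = c := by
      rw [show m' = w + herm q m' m • m by rw [hw, sub_add_cancel], herm_add_right hF, herm_smul_right hF, hum,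
        mul_zero, add_zero, hu, herm_add_left, herm_smul_left, herm_smul_left, hw'w, hww, mul_one, mul_zero, add_zero]
    obtain ⟨z, hz, hzp, hzv, hzu, hzm⟩ := base u m' huu hm' hup huv hmp' hmv' (by
      rw [herm_swap hF u m', hm'u, ← pow_mul, mul_comm, pow_mul]
      intro e
      exact hc1 (by rwa [norm_fixed hF] at e))
    exact ⟨u, z, ⟨huu, hup, huv, hum⟩, ⟨hz, hzp, hzv, hzm⟩, Or.inr (cv hzu)⟩
  · obtain ⟨z, hz, hzp, hzv, hzm, hzm'⟩ := base m m' hm hm' hmp hmv hmp' hmv' hd
    exact ⟨z, z, ⟨hz, hzp, hzv, hzm⟩, ⟨hz, hzp, hzv, hzm'⟩, Or.inl ⟨1, (one_smul F z).symm⟩⟩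

end Cfsg.Agent.KSG55.SUStep
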